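import Cfsg.Agent.Lib.Block.WinterBound.Rational
import Cfsg.Agent.Lib.Block.OrderPrimeSelfTwo
import Cfsg.Agent.Lib.Classical.DicksonTorus
import Cfsg.Agent.S0144
import Cfsg.Agent.S0496
import Cfsg.Agent.S0904
import Cfsg.Agent.S0997
import Cfsg.Agent.S1011
import Cfsg.Agent.S1020
import Cfsg.Agent.S3784

/-!
From a small rational character to the order of a simple group of order `9 * 2^a * q^b`.
-/

namespace Cfsg.Agent.Spor.NineQ

open Cfsg Cfsg.Agent.Block Cfsg.Agent.Char

set_option linter.unusedSectionVars false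
set_option linter.style.haveILetI false

universe u

/-- Equal odd parts. -/
theorem odd_part {i j u v : ℕ} (hu : Odd u) (hv : Odd v) (h : 2 ^ i * u = 2 ^ j * v) : u = v := by
  have hu' : (2 ^ i).Coprime v := Nat.Coprime.pow_left _ (Nat.coprime_two_left.2 hv)
  have hv' : (2 ^ j).Coprime u := Nat.Coprime.pow_left _ (Nat.coprime_two_left.2 hu)
  exact Nat.dvd_antisymm (hv'.symm.dvd_of_dvd_mul_left (h ▸ Dvd.intro_left _ rfl))
    (hu'.symm.dvd_of_dvd_mul_left (h.symm ▸ Dvd.intro_left _ rfl))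

/-- Consecutive divisors of `9 * 2^a * q^b` prime to three. -/
theorem consecutive {q a b d D : ℕ} (hq : q.Prime) (hq2 : q ≠ 2) (hq3 : q ≠ 3) (hd1 : 2 ≤ d)
    (hD1 : 2 ≤ D) (hdG : d ∣ 9 * 2 ^ a * q ^ b) (hDG : D ∣ 9 * 2 ^ a * q ^ b) (hd3 : ¬ 3 ∣ d)
    (hD3 : ¬ 3 ∣ D) (hcon : d + 1 = D ∨ D + 1 = d) :
    ∃ x, 1 ≤ x ∧ (q + 1 = 2 ^ x ∨ q = 2 ^ x + 1) ∧
      (d = q ∧ D = 2 ^ x ∨ d = 2 ^ x ∧ D = q) := by
  have h3 : ∀ c, c ∣ 9 * 2 ^ a * q ^ b → ¬ 3 ∣ c → c ∣ 2 ^ a * q ^ b := by
    intro c hc hc3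
    refine Nat.Coprime.dvd_of_dvd_mul_left ?_ (by rwa [← mul_assoc])
    exact Nat.Coprime.pow_right 2 (Nat.Coprime.symm ((Nat.prime_three.coprime_iff_not_dvd).2 hc3))
  have key : ∀ o e, Odd o → 2 ≤ o → 2 ≤ e → o ∣ 2 ^ a * q ^ b → e ∣ 2 ^ a * q ^ b → o.Coprime e →
      ∃ j x, 1 ≤ j ∧ 1 ≤ x ∧ o = q ^ j ∧ e = 2 ^ x := by
    intro o e ho ho2 he2 hoG heG hco
    obtain ⟨j, -, rfl⟩ := (Nat.dvd_prime_pow hq).1
      (Nat.Coprime.dvd_of_dvd_mul_left (Nat.Coprime.pow_right a (Nat.coprime_two_right.2 ho)) hoG)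
    have hj : 1 ≤ j := Nat.one_le_iff_ne_zero.2 fun h => by rw [h, pow_zero] at ho2; omega
    have heq : e.Coprime (q ^ b) := by
      refine Nat.Coprime.pow_right b ?_
      exact (hco.coprime_dvd_left (dvd_pow_self q (by omega))).symm
    obtain ⟨x, -, rfl⟩ := (Nat.dvd_prime_pow Nat.prime_two).1 (heq.dvd_of_dvd_mul_right heG)
    exact ⟨j, x, hj, Nat.one_le_iff_ne_zero.2 fun h => by rw [h, pow_zero] at he2; omega, rfl, rfl⟩
  have fin : ∀ j x, 1 ≤ j → 1 ≤ x → (q ^ j + 1 = 2 ^ x ∨ 2 ^ x + 1 = q ^ j) →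
      j = 1 ∧ (q + 1 = 2 ^ x ∨ q = 2 ^ x + 1) := by
    intro j x hj hx h
    rcases h with h | h
    · rcases Cfsg.Agent.S3784.result 2 q x j Nat.prime_two hq hx hj h.symm with
        ⟨-, hj1, -, h'⟩ | ⟨h', -⟩ | ⟨-, h'⟩
      · exact ⟨hj1, Or.inl h'⟩
      · exact absurd h' hq2
      · exact absurd ((Nat.prime_dvd_prime_iff_eq hq Nat.prime_two).1
          (hq.dvd_of_dvd_pow (n := 3) (by norm_num; exact h' ▸ dvd_pow_self q (by omega)))) hq2
    · rcases Cfsg.Agent.S3784.result q 2 j x hq Nat.prime_two hj hx h.symm with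
        ⟨h', -⟩ | ⟨-, hj1, -, h'⟩ | ⟨h', -⟩
      · exact absurd h' hq2
      · exact ⟨hj1, Or.inr h'⟩
      · exact absurd ((Nat.prime_dvd_prime_iff_eq hq Nat.prime_three).1
          (hq.dvd_of_dvd_pow (n := 2) (by norm_num; exact h' ▸ dvd_pow_self q (by omega)))) hq3
  have hco : d.Coprime D := by
    rcases hcon with rfl | rfl
    · simp
    · simp
  rcases Nat.even_or_odd d with he | ho
  · have hoD : Odd D := by
      rcases hcon with rfl | h
      · exact he.add_one
      · exact Nat.not_even_iff_odd.1 fun hD => by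
          rw [← h] at he; exact (Nat.even_add_one.1 he) hD
    obtain ⟨j, x, hj, hx, rfl, rfl⟩ := key D d hoD hD1 hd1 (h3 _ hDG hD3) (h3 _ hdG hd3) hco.symm
    obtain ⟨rfl, h⟩ := fin j x hj hx (hcon.symm.imp id id)
    exact ⟨x, hx, h, Or.inr ⟨rfl, by rw [pow_one]⟩⟩
  · obtain ⟨j, x, hj, hx, rfl, rfl⟩ := key d D ho hd1 hD1 (h3 _ hdG hd3) (h3 _ hDG hD3) hco
    obtain ⟨rfl, h⟩ := fin j x hj hx hcon
    exact ⟨x, hx, h, Or.inl ⟨by rw [pow_one], rfl⟩⟩

variable {G : Type u} [Group G] [Fintype G] [IsSimpleGroup G]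

/-- A rational nontrivial character bounds the Sylow subgroups. -/
theorem sylow_card_le {r : ℕ} [Fact r.Prime] (Q : Sylow r G) (θ : IrrCharacter G)
    (hθ : θ ≠ trivialIrr G)
    (hrat : ∀ k : ℕ, k.Coprime (Nat.card G) → ∀ g, (θ : G → ℂ) (g ^ k) = (θ : G → ℂ) g) :
    Nat.card (Q : Subgroup G) ≤ r ^ WinterBound.S r (charDegree (θ : G → ℂ)) := by
  refine WinterBound.card_le Q.isPGroup' (IsChar.res (IsIrr.isCharacter θ.2) (Q : Subgroup G))
    (n := charDegree (θ : G → ℂ)) (charDeg_spec' θ) (fun k hk x => ?_) fun x hx => ?_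
  · obtain ⟨i, hi⟩ := IsPGroup.iff_orderOf.1 Q.isPGroup' x
    have ho : orderOf (x : G) = r ^ i := by rw [Subgroup.orderOf_coe, hi]
    obtain ⟨k', hk', hkk⟩ := exists_coprime_lift (N := Nat.card G) Nat.card_pos
      (orderOf_dvd_natCard (x : G)) (k := k) (ho ▸ hk.pow_right i)
    show (θ : G → ℂ) ((x ^ k : (Q : Subgroup G)) : G) = (θ : G → ℂ) (x : G)
    rw [Subgroup.coe_pow, ← pow_eq_pow_iff_modEq.2 hkk, hrat k' hk']
  · exact Subtype.ext (OrdP.eq_one_of_value hθ hx)

theorem card_eq_of_iso {H : Type*} [Group H] (e : G ≃* H) : Nat.card G = Nat.card H :=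
  Nat.card_congr e.toEquiv

/-- The main arithmetical step. -/
theorem final (hna : ¬ IsMulCommutative G) {q a b : ℕ} (hq : q.Prime) (hq2 : q ≠ 2) (hq3 : q ≠ 3)
    (hcard : Nat.card G = 9 * 2 ^ a * q ^ b) (θ E : IrrCharacter G) (hθ : θ ≠ trivialIrr G)
    (hE : E ≠ trivialIrr G)
    (hrat : ∀ k : ℕ, k.Coprime (Nat.card G) → ∀ g, (θ : G → ℂ) (g ^ k) = (θ : G → ℂ) g)
    (hθ3 : ¬ 3 ∣ charDegree (θ : G → ℂ)) (hE3 : ¬ 3 ∣ charDegree (E : G → ℂ))
    (hcon : charDegree (θ : G → ℂ) + 1 = charDegree (E : G → ℂ) ∨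
      charDegree (E : G → ℂ) + 1 = charDegree (θ : G → ℂ))
    (h5 : charDegree (θ : G → ℂ) < charDegree (E : G → ℂ) ∨
      charDegree (θ : G → ℂ) % 9 = 1 ∨ charDegree (θ : G → ℂ) % 9 = 8) :
    Nat.card G = 360 ∨
      (∃ (F : Type) (_ : Field F) (_ : Fintype F), Fintype.card F = 8 ∧
        Nonempty (G ≃* Matrix.ProjectiveSpecialLinearGroup (Fin 2) F)) ∨
      Nonempty (G ≃* Matrix.ProjectiveSpecialLinearGroup (Fin 2) (ZMod 17)) := by
  classical
  haveI := Fact.mk hq
  have hns : ¬ IsCyclic G := fun hc => hna ⟨⟨(IsCyclic.commGroup (α := G)).mul_comm⟩⟩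
  have hb0 : b ≠ 0 := by
    rintro rfl
    have := Cfsg.Agent.S0144.result (G := G) 2 3 a 2 Nat.prime_two Nat.prime_three
      (by rw [hcard, pow_zero]; ring)
    exact hna ⟨⟨IsSimpleGroup.comm_iff_isSolvable.2 this⟩⟩
  have hd : charDegree (θ : G → ℂ) ∣ 9 * 2 ^ a * q ^ b := hcard ▸ charDeg_dvd θ
  have hD : charDegree (E : G → ℂ) ∣ 9 * 2 ^ a * q ^ b := hcard ▸ charDeg_dvd E
  obtain ⟨x, hx1, hqx, hdD⟩ := consecutive hq hq2 hq3 (OrdP.two_le_deg hna hθ)
    (OrdP.two_le_deg hna hE) hd hD hθ3 hE3 hcon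
  have hq5 : 5 ≤ q := hq.five_le_of_ne_two_of_ne_three hq2 hq3
  -- the exponent of q
  obtain ⟨Q⟩ : Nonempty (Sylow q G) := inferInstance
  have hndvd : ¬ q ∣ 9 * 2 ^ a := fun h => by
    rcases hq.dvd_mul.1 h with h | h
    · exact hq3 ((Nat.prime_dvd_prime_iff_eq hq Nat.prime_three).1
        (hq.dvd_of_dvd_pow (n := 2) (by norm_num; exact h)))
    · exact hq2 ((Nat.prime_dvd_prime_iff_eq hq Nat.prime_two).1 (hq.dvd_of_dvd_pow h))
  have hQc : Nat.card (Q : Subgroup G) = q ^ b := by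
    rw [Q.card_eq_multiplicity, hcard]
    congr 1
    rw [Nat.factorization_mul (by positivity) (pow_ne_zero _ hq.ne_zero), Finsupp.add_apply,
      Nat.factorization_eq_zero_of_not_dvd hndvd, hq.factorization_pow, Finsupp.single_eq_same,
      zero_add]
  have hdq : charDegree (θ : G → ℂ) ≤ q + 1 := by
    rcases hdD with ⟨h, -⟩ | ⟨h, -⟩ <;> omega
  have hS : WinterBound.S q (charDegree (θ : G → ℂ)) ≤ 1 := by
    rw [WinterBound.S_eq (N := charDegree (θ : G → ℂ) + 1) hq.two_le le_rfl,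
      Finset.sum_range_succ', Finset.sum_eq_zero (fun i _ => Nat.div_eq_of_lt ?_), zero_add,
      pow_zero, mul_one, Nat.le_iff_lt_add_one, Nat.div_lt_iff_lt_mul (by omega)]
    · omega
    · calc charDegree (θ : G → ℂ) ≤ q + 1 := hdq
        _ < (q - 1) * q ^ 1 := by
            rw [pow_one]
            calc q + 1 < 2 * q := by omega
              _ ≤ (q - 1) * q := Nat.mul_le_mul_right q (by omega)
        _ ≤ (q - 1) * q ^ (i + 1) :=
            Nat.mul_le_mul_left _ (Nat.pow_le_pow_right hq.pos (by omega))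
  have hb1 : b = 1 := by
    have h := (sylow_card_le Q θ hθ hrat).trans (Nat.pow_le_pow_right hq.pos hS)
    rw [hQc] at h
    have := (Nat.pow_le_pow_iff_right hq.one_lt).1 h
    omega
  subst hb1
  rw [pow_one] at hcard hQc
  by_cases h10 : 10 < q
  · refine Or.inr (Or.inr ?_)
    rcases Cfsg.Agent.S0997.result hns q 2 a 9 hq Nat.prime_two hq2
      (by rw [hcard]; ring) (by omega) with
      ⟨m, F, _, _, hF, hm, ⟨e⟩⟩ | ⟨m, F, _, _, hF, hm, -, ⟨e⟩⟩
    · have hdel : Dickson.del F = 2 := by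
        rcases Dickson.del_cases F with ⟨-, he⟩ | ⟨h, -⟩
        · exact absurd (hF ▸ he) (Nat.not_even_iff_odd.2 (hq.odd_of_ne_two hq2))
        · exact h
      have h := Dickson.card_psl (F := F)
      rw [hdel, ← card_eq_of_iso e, hcard, hF] at h
      have h' : (q - 1) * (q + 1) = 2 ^ (a + 1) * 9 :=
        Nat.eq_of_mul_eq_mul_left hq.pos (by rw [← h]; ring)
      obtain ⟨k, rfl⟩ : ∃ k, m = k + 1 := Nat.exists_eq_succ_of_ne_zero (by
        rintro rfl
        rcases hm with hm | hm <;> simp at hm <;> omega)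
      have hk : 2 ^ (k + 1) = 2 * 2 ^ k := by rw [pow_succ]; ring
      obtain ⟨l, rfl⟩ : ∃ l, k = l + 1 := Nat.exists_eq_succ_of_ne_zero (by
        rintro rfl
        rcases hm with hm | hm <;> simp at hm <;> omega)
      have hpe : Even (2 ^ (l + 1)) := (Nat.even_pow.2 ⟨even_two, by omega⟩)
      rcases hm with hm | hm
      · have h9 := odd_part (i := l + 1 + 1 + 1) (u := 2 ^ (l + 1) + 1) hpe.add_one (by decide)
          (show 2 ^ (l + 1 + 1 + 1) * (2 ^ (l + 1) + 1) = 2 ^ (a + 1) * 9 from by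
            rw [← h', hm, Nat.add_sub_cancel]; ring)
        have hq17 : q = 17 := by omega
        subst hq17
        have ha : a = 4 := by
          have h2 : 2 ^ (a + 1) = 2 ^ 5 := by norm_num at h' ⊢; omega
          have := Nat.pow_right_injective le_rfl h2
          omega
        subst ha
        haveI : Fact (Nat.Prime 17) := ⟨by norm_num⟩
        exact Cfsg.Agent.S1020.result (F := ZMod 17) (by rw [hcard]; norm_num)
          (ZMod.card 17)
      · exfalso
        have h1 : 1 ≤ 2 ^ (l + 1) := Nat.one_le_two_pow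
        have h9 := odd_part (i := l + 1 + 1 + 1) (u := 2 ^ (l + 1) - 1)
          (Nat.Even.sub_odd h1 hpe odd_one) (by decide)
          (show 2 ^ (l + 1 + 1 + 1) * (2 ^ (l + 1) - 1) = 2 ^ (a + 1) * 9 from by
            rw [← h', show q - 1 = 2 * (2 ^ (l + 1) - 1) by omega,
              show q + 1 = 2 ^ (l + 1 + 1) by omega]
            ring)
        have : (l + 1 : ℕ) ≤ 3 := by
          by_contra hl
          have := Nat.pow_le_pow_right (show 0 < 2 by norm_num) (show 4 ≤ l + 1 by omega)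
          omega
        interval_cases hh : l + 1 <;> omega
    · exfalso
      have h := Dickson.card_psl (F := F)
      have hm0 : m ≠ 0 := by rintro rfl; simp at hm; omega
      have hdel : Dickson.del F = 1 := by
        rcases Dickson.del_cases F with ⟨h, -⟩ | ⟨-, ho⟩
        · exact h
        · exact absurd (hF ▸ (Nat.even_pow.2 ⟨even_two, hm0⟩)) (Nat.not_even_iff_odd.2 ho)
      rw [hdel, mul_one, ← card_eq_of_iso e, hcard, hF, ← hm] at h
      have h1 : 1 ≤ 2 ^ m := Nat.one_le_two_pow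
      have h9 : 2 ^ m * (2 ^ m - 1) = 2 ^ a * 9 :=
        Nat.eq_of_mul_eq_mul_right hq.pos (by rw [mul_assoc, ← h]; ring)
      have hu := odd_part (Nat.Even.sub_odd h1 (Nat.even_pow.2 ⟨even_two, hm0⟩) odd_one)
        (by decide) h9
      have : m ≤ 4 := by
        by_contra hl
        have := Nat.pow_le_pow_right (show 0 < 2 by norm_num) (show 5 ≤ m by omega)
        omega
      interval_cases m <;> omega
  -- the small primes
  have hcardm : Nat.card G = q * (9 * 2 ^ a) := by rw [hcard]; ring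
  have hC : Nat.card (Subgroup.centralizer ((Q : Subgroup G) : Set G)) = q := by
    show Nat.card (Subgroup.centralizer ((Q : Set G))) = q
    rw [Cfsg.Agent.S0904.result 3 2 q 2 a Nat.prime_three Nat.prime_two (by norm_num) (Ne.symm hq3)
      (Ne.symm hq2) (by rw [hcard]; ring) Q, hQc]
  obtain ⟨e, k, -, -, he, he1, hed, -, hprod⟩ := OrdP.exists_e hna hcardm hndvd Q
  rw [hC, mul_assoc] at hprod
  have hek : e * (q * k + 1) = 9 * 2 ^ a := Nat.eq_of_mul_eq_mul_left hq.pos hprod
  have hmod : e % q = 9 * 2 ^ a % q := by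
    rw [← hek, show e * (q * k + 1) = e + q * (e * k) by ring, Nat.add_mul_mod_self_left]
  obtain ⟨M, hM⟩ := exists_isPModular q hq
  have htwo : e = 2 → ∃ d d' : ℕ, 2 ≤ d ∧ (d % q = 1 ∨ d % q = q - 1) ∧
      (d' + 1 = d ∨ d' = d + 1) ∧ 2 ^ a * d' ≤ 36 * d := by
    intro he2
    obtain ⟨d, d', c, -, -, -, hd2, hdm, hd', -, hc, hcpos, hineq⟩ :=
      OrdP.two_self hna hM (by omega) Q hQc hC (he.trans he2)
    refine ⟨d, d', hd2, hdm, hd', ?_⟩
    have h2 : (Nat.card G).factorization 2 = a := by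
      rw [hcard, Nat.factorization_mul (by positivity) hq.ne_zero,
        Nat.factorization_mul (by norm_num) (by positivity), Finsupp.add_apply, Finsupp.add_apply,
        Nat.factorization_eq_zero_of_not_dvd (by norm_num), Nat.Prime.factorization_pow Nat.prime_two,
        Finsupp.single_eq_same,
        Nat.factorization_eq_zero_of_not_dvd (fun h =>
          hq2 ((Nat.prime_dvd_prime_iff_eq Nat.prime_two hq).1 h).symm)]
      ring
    rw [h2] at hc
    have hcle : 2 ^ a ≤ c := Nat.le_of_dvd hcpos hc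
    rw [hcard] at hineq
    have : (2 ^ a * q) * (2 ^ a * d') ≤ (2 ^ a * q) * (36 * d) := by
      calc (2 ^ a * q) * (2 ^ a * d') = (2 ^ a) ^ 2 * q * d' := by ring
        _ ≤ c ^ 2 * q * d' := Nat.mul_le_mul_right _ (Nat.mul_le_mul_right _
            (Nat.pow_le_pow_left hcle 2))
        _ ≤ _ := hineq
        _ = _ := by ring
    exact Nat.le_of_mul_le_mul_left this (by positivity)
  have hq57 : q = 5 ∨ q = 7 := by
    interval_cases q <;> first | omega | exact absurd hq (by decide)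
  rcases hq57 with rfl | rfl
  · refine Or.inl ?_
    have hd4 : charDegree (θ : G → ℂ) = 4 := by
      have hx4 : 2 ^ x = 4 := by
        rcases hqx with h | h
        · exfalso
          have : x ≤ 3 := by
            by_contra hl
            have := Nat.pow_le_pow_right (show 0 < 2 by norm_num) (show 4 ≤ x by omega)
            omega
          interval_cases x <;> omega
        · omega
      rcases hdD with ⟨h, h'⟩ | ⟨h, h'⟩
      · rcases h5 with h5 | h5 | h5 <;> omega
      · omega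
    have he' : e = 2 ∨ e = 4 := by
      have := Nat.le_of_dvd (by norm_num) hed
      interval_cases e <;> revert hed <;> decide
    have hm4 : ∀ n, 2 ^ n % 5 = 2 ^ (n % 4) % 5 := fun n => by
      conv_lhs => rw [← Nat.div_add_mod n 4, pow_add, pow_mul]
      rw [Nat.mul_mod, Nat.pow_mod]
      norm_num
    rw [Nat.mul_mod, hm4] at hmod
    have ha4 := Nat.mod_lt a (show 4 > 0 by norm_num)
    rcases he' with rfl | rfl
    · obtain ⟨d, d', hd2, hdm, hd', hbd⟩ := htwo rfl
      have hd4' : 4 ≤ d := by omega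
      have h3 : 2 ^ a * 3 ≤ 36 * 4 := by
        by_contra hlt
        push Not at hlt
        have h1 : 2 ^ a * (d - 1) ≤ 36 * d := le_trans (Nat.mul_le_mul_left _ (by omega)) hbd
        have h2 : 49 * (d - 1) ≤ 2 ^ a * (d - 1) := Nat.mul_le_mul_right _ (by omega)
        omega
      have ha5 : a ≤ 5 := by
        by_contra hl
        have := Nat.pow_le_pow_right (show 0 < 2 by norm_num) (show 6 ≤ a by omega)
        omega
      have ha : a = 3 := by interval_cases a <;> revert hmod <;> decide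
      subst ha
      rw [hcard]; norm_num
    · exfalso
      obtain ⟨P⟩ : Nonempty (Sylow 2 G) := inferInstance
      have h := sylow_card_le P θ hθ hrat
      rw [hd4, P.card_eq_multiplicity, hcard] at h
      have ha7 : a ≤ 7 := by
        have hS' : WinterBound.S 2 4 = 7 := by decide
        rw [hS', Nat.factorization_mul (by positivity) (by norm_num),
          Nat.factorization_mul (by norm_num) (by positivity), Finsupp.add_apply, Finsupp.add_apply,
          Nat.factorization_eq_zero_of_not_dvd (show ¬ 2 ∣ 9 by norm_num),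
          Nat.factorization_eq_zero_of_not_dvd (show ¬ 2 ∣ 5 by norm_num),
          Nat.Prime.factorization_pow Nat.prime_two, Finsupp.single_eq_same, zero_add, add_zero]
          at h
        exact (Nat.pow_le_pow_iff_right (by norm_num)).1 h
      have ha : a = 0 ∨ a = 4 := by interval_cases a <;> revert hmod <;> decide
      rcases ha with rfl | rfl
      · have h' := Cfsg.Agent.S0496.result hna (by rw [hcard]; norm_num)
        rw [hcard] at h'
        norm_num at h'
      · have h' := Cfsg.Agent.S0496.result hna (by rw [hcard]; norm_num)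
        rw [hcard] at h'
        norm_num at h'
  · refine Or.inr (Or.inl ?_)
    have he' : e = 2 ∨ e = 3 ∨ e = 6 := by
      have := Nat.le_of_dvd (by norm_num) hed
      interval_cases e <;> revert hed <;> decide
    have hm3 : ∀ n, 2 ^ n % 7 = 2 ^ (n % 3) % 7 := fun n => by
      conv_lhs => rw [← Nat.div_add_mod n 3, pow_add, pow_mul]
      rw [Nat.mul_mod, Nat.pow_mod]
      norm_num
    rw [Nat.mul_mod, hm3] at hmod
    have ha3 := Nat.mod_lt a (show 3 > 0 by norm_num)
    have he2 : e = 2 := by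
      rcases he' with rfl | rfl | rfl <;> interval_cases hh : a % 3 <;> revert hmod <;> decide
    subst he2
    obtain ⟨d, d', hd2, hdm, hd', hbd⟩ := htwo rfl
    have h3 : 2 ^ a ≤ 43 := by
      by_contra hlt
      push Not at hlt
      have h1 : 2 ^ a * (d - 1) ≤ 36 * d := le_trans (Nat.mul_le_mul_left _ (by omega)) hbd
      have h2 : 44 * (d - 1) ≤ 2 ^ a * (d - 1) := Nat.mul_le_mul_right _ (by omega)
      omega
    have ha5 : a ≤ 5 := by
      by_contra hl
      have := Nat.pow_le_pow_right (show 0 < 2 by norm_num) (show 6 ≤ a by omega)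
      omega
    have ha : a = 0 ∨ a = 3 := by interval_cases a <;> revert hmod <;> decide
    rcases ha with rfl | rfl
    · exfalso
      have h' := Cfsg.Agent.S0496.result hna (by rw [hcard]; norm_num)
      rw [hcard] at h'
      norm_num at h'
    · haveI : Fact (Nat.Prime 2) := ⟨Nat.prime_two⟩
      haveI : Fintype (GaloisField 2 3) := Fintype.ofFinite _
      have hF : Fintype.card (GaloisField 2 3) = 8 := by
        rw [← Nat.card_eq_fintype_card, GaloisField.card 2 3 (by norm_num)]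
        norm_num
      exact ⟨GaloisField 2 3, inferInstance, inferInstance, hF,
        Cfsg.Agent.S1011.result (by rw [hcard]; norm_num) hF⟩

end Cfsg.Agent.Spor.NineQ
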