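import Cfsg.Agent.Lib.Spor.NineQ.Local
import Cfsg.Agent.Lib.Char.TIFamily
import Cfsg.Agent.Lib.Block.OrderPrimeBase

/-!
Lifted generalized characters of norm three, and the facts shared by the two cases.
-/

open scoped ComplexConjugate

namespace Cfsg.Agent.Spor.NineQ

open Cfsg Cfsg.Agent.Block Cfsg.Agent.Char Cfsg.Agent.Char.Star Cfsg.Agent.Char.SecInner

set_option linter.unusedSectionVars false
set_option linter.style.haveILetI false

universe u

variable {G : Type u} [Group G] [Fintype G]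

theorem irr_one_ne_zero (χ : IrrCharacter G) : (charDegree (χ : G → ℂ) : ℤ) ≠ 0 :=
  Int.natCast_ne_zero.2 (charDeg_pos χ).ne'

/-- A generalized character of norm three containing the trivial one once and vanishing at one. -/
theorem three_terms {f : G → ℂ} (hf : IsGeneralizedCharacter G f) (hnorm : classInner f f = 3)
    (hone : classInner f (trivialIrr G : G → ℂ) = 1) (h1 : f 1 = 0) :
    ∃ c : IrrCharacter G → ℤ, (∀ χ : IrrCharacter G, classInner f (χ : G → ℂ) = (c χ : ℂ)) ∧
      c (trivialIrr G) = 1 ∧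
      ∃ X Y : IrrCharacter G, X ≠ Y ∧ X ≠ trivialIrr G ∧ Y ≠ trivialIrr G ∧
        (c X = 1 ∨ c X = -1) ∧ (c Y = 1 ∨ c Y = -1) ∧
        (∀ χ, c χ ≠ 0 → χ = trivialIrr G ∨ χ = X ∨ χ = Y) ∧
        1 + c X * (charDegree (X : G → ℂ) : ℤ) + c Y * (charDegree (Y : G → ℂ) : ℤ) = 0 ∧
        ∀ d : IrrCharacter G → ℤ, ∑ χ, c χ * d χ = d (trivialIrr G) + c X * d X + c Y * d Y := by
  classical
  obtain ⟨c, hc, hexp⟩ := IsGenChar.exists_decomp hf
  have hsq : ∑ χ, c χ ^ 2 = 3 := by
    have h := hnorm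
    rw [hexp, IsGenChar.classInner_self_int] at h
    exact_mod_cast h
  have hτ : c (trivialIrr G) = 1 := by exact_mod_cast (hc _).symm.trans hone
  have htri := TIFamily.tri_of_sq hsq
  set S := Finset.univ.filter fun χ : IrrCharacter G => c χ ≠ 0 with hS
  have hScard : S.card = 3 := htri.card
  have hτS : trivialIrr G ∈ S := by simp [S, hτ]
  obtain ⟨X, Y, hXY, hXYe⟩ := Finset.card_eq_two.1
    (show (S.erase (trivialIrr G)).card = 2 by rw [Finset.card_erase_of_mem hτS, hScard])
  have hX : X ≠ trivialIrr G ∧ c X ≠ 0 := by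
    have : X ∈ S.erase (trivialIrr G) := hXYe ▸ Finset.mem_insert_self _ _
    simpa [S] using this
  have hY : Y ≠ trivialIrr G ∧ c Y ≠ 0 := by
    have : Y ∈ S.erase (trivialIrr G) :=
      hXYe ▸ Finset.mem_insert_of_mem (Finset.mem_singleton_self _)
    simpa [S] using this
  have honly : ∀ χ, c χ ≠ 0 → χ = trivialIrr G ∨ χ = X ∨ χ = Y := fun χ hχ => by
    by_cases e : χ = trivialIrr G
    · exact Or.inl e
    · have : χ ∈ S.erase (trivialIrr G) := by simp [S, e, hχ]
      rw [hXYe] at this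
      simpa [e] using this
  have hsum : ∀ d : IrrCharacter G → ℤ,
      ∑ χ, c χ * d χ = d (trivialIrr G) + c X * d X + c Y * d Y := by
    intro d
    rw [← Finset.sum_subset (Finset.subset_univ ({trivialIrr G, X, Y} : Finset _)) fun χ _ hχ => ?_]
    · rw [Finset.sum_insert (by simp [hX.1.symm, hY.1.symm]), Finset.sum_pair hXY, hτ]
      ring
    · by_contra h
      exact hχ (by simpa using honly χ (left_ne_zero_of_mul h))
  refine ⟨c, hc, hτ, X, Y, hXY, hX.1, hY.1, htri.val hX.2, htri.val hY.2, honly, ?_, hsum⟩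
  have h := hsum fun χ => (charDegree (χ : G → ℂ) : ℤ)
  have h0 : ((∑ χ, c χ * (charDegree (χ : G → ℂ) : ℤ) : ℤ) : ℂ) = 0 := by
    rw [← h1, hexp]
    push_cast
    simp only [Finset.sum_apply, Pi.smul_apply, smul_eq_mul, charDeg_spec']
  have h0' : ∑ χ, c χ * (charDegree (χ : G → ℂ) : ℤ) = 0 := by exact_mod_cast h0
  rw [h0', show charDegree (trivialIrr G : G → ℂ) = 1 from charDeg_trivial] at h
  simpa using h.symm

/-- The inner product of two generalized characters through their coefficients. -/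
theorem inner_eq_sum {f f' : G → ℂ} (hf' : IsGeneralizedCharacter G f') {c c' : IrrCharacter G → ℤ}
    (hc : ∀ χ : IrrCharacter G, classInner f (χ : G → ℂ) = (c χ : ℂ))
    (hc' : ∀ χ : IrrCharacter G, classInner f' (χ : G → ℂ) = (c' χ : ℂ)) :
    classInner f f' = ((∑ χ, c χ * c' χ : ℤ) : ℂ) := by
  conv_lhs => rw [classFunction_expansion (IsGenChar.classFun hf')]
  rw [classInner_sum_right]
  push_cast
  refine Finset.sum_congr rfl fun χ _ => ?_
  rw [classInner_smul_right, hc, hc', map_intCast]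
  ring

theorem lift_one {p : ℕ} [Fact p.Prime] {P : Sylow p G} {ψ : G → ℂ} (h : Stable P ψ) :
    lift P ψ 1 = ψ 1 := by
  classical
  refine lift_eq h (one_mem _) ?_
  have : ppt p (1 : G) = 1 := by
    conv_lhs => rw [← one_mul (1 : G)]
    exact ppt_eq (Commute.refl 1) ⟨0, by simp⟩
      (by rw [orderOf_one]; exact (Fact.out : p.Prime).not_dvd_one)
  rw [this]

theorem stable_one {p : ℕ} [Fact p.Prime] (P : Sylow p G) : Stable P (fun _ => (1 : ℂ)) :=
  fun _ _ _ _ _ => rfl

theorem lift_const {p : ℕ} [Fact p.Prime] (P : Sylow p G) :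
    lift P (fun _ => (1 : ℂ)) = (trivialIrr G : G → ℂ) := rfl

/-- The Galois twist of an irreducible character. -/
noncomputable def twist (χ : IrrCharacter G) {k : ℕ} (hk : k.Coprime (Nat.card G)) :
    IrrCharacter G :=
  ⟨fun g => (χ : G → ℂ) (g ^ k), IsIrr.pow_map χ.2 hk⟩

theorem twist_apply (χ : IrrCharacter G) {k : ℕ} (hk : k.Coprime (Nat.card G)) (g : G) :
    ((twist χ hk : IrrCharacter G) : G → ℂ) g = (χ : G → ℂ) (g ^ k) := rfl

theorem twist_deg (χ : IrrCharacter G) {k : ℕ} (hk : k.Coprime (Nat.card G)) :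
    charDegree ((twist χ hk : IrrCharacter G) : G → ℂ) = charDegree (χ : G → ℂ) := by
  have h : (charDegree ((twist χ hk : IrrCharacter G) : G → ℂ) : ℂ) = charDegree (χ : G → ℂ) := by
    rw [← charDeg_spec', ← charDeg_spec', twist_apply, one_pow]
  exact_mod_cast h

theorem twist_ne_trivial {χ : IrrCharacter G} (h : χ ≠ trivialIrr G) {k : ℕ}
    (hk : k.Coprime (Nat.card G)) : twist χ hk ≠ trivialIrr G := fun e => h (Subtype.ext (funext
  fun g => by
    obtain ⟨g₀, hg₀⟩ := (powCoprime hk.symm).surjective g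
    simp only [powCoprime, Equiv.coe_fn_mk] at hg₀
    rw [← hg₀, ← twist_apply χ hk, e]
    rfl))

theorem sum_sylow {p : ℕ} [Fact p.Prime] (P : Sylow p G) [Fintype (P : Subgroup G)]
    [DecidablePred fun v : G => v ∈ (P : Subgroup G)] (F : G → ℂ) :
    ∑ v ∈ Finset.univ.filter (fun v : G => v ∈ (P : Subgroup G)), F v =
      ∑ v : (P : Subgroup G), F v :=
  Finset.sum_subtype _ (fun x => by simp) F

end Cfsg.Agent.Spor.NineQ
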