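import Cfsg.Agent.Lib.Spor.NineQ.Common

/-!
All classes of 3-elements are inverse pairs: a rational character of degree congruent to a sign
modulo nine, next to another degree.
-/

open scoped ComplexConjugate

namespace Cfsg.Agent.Spor.NineQ

open Cfsg Cfsg.Agent.Block Cfsg.Agent.Char Cfsg.Agent.Char.Star Cfsg.Agent.Char.SecInner

set_option linter.unusedSectionVars false
set_option linter.style.haveILetI false

universe u

variable {G : Type u} [Group G] [Fintype G] [IsSimpleGroup G] [Fact (Nat.Prime 3)]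

theorem linv_inv {H : Type*} [Group H] (l : H →* ℂˣ) : (l⁻¹)⁻¹ = l := by
  ext v
  simp

theorem lmul_one {H : Type*} [Group H] (l m : H →* ℂˣ) : (l * m = 1) = (m = l⁻¹) := propext <| by
  constructor
  · intro h
    refine MonoidHom.ext fun v => ?_
    exact eq_inv_of_mul_eq_one_right (DFunLike.congr_fun h v)
  · rintro rfl
    exact MonoidHom.ext fun v => mul_inv_cancel (l v)

theorem linv_eq {H : Type*} [Group H] (l m : H →* ℂˣ) : (l⁻¹ = m) = (m = l⁻¹) := propext eq_comm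

theorem linv_one {H : Type*} [Group H] (l : H →* ℂˣ) : (l⁻¹ = 1) = (l = 1) := propext <| by
  constructor <;> intro h
  · rw [← linv_inv l, h]; ext; simp
  · rw [h]; ext; simp

/-- `2 - λ - λ⁻¹` on the Sylow subgroup. -/
noncomputable def psi (T : Sylow 3 G) (l : ↥(T : Subgroup G) →* ℂˣ) (v : G) : ℂ := by
  classical
  exact if h : v ∈ (T : Subgroup G) then 2 - (l ⟨v, h⟩ : ℂ) - (l⁻¹ ⟨v, h⟩ : ℂ) else 0

variable {T : Sylow 3 G}

theorem psi_apply (l : ↥(T : Subgroup G) →* ℂˣ) (v : (T : Subgroup G)) :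
    psi T l v = 2 - (l v : ℂ) - (l⁻¹ v : ℂ) := by
  simp [psi]

theorem psi_one (l : ↥(T : Subgroup G) →* ℂˣ) : psi T l 1 = 0 := by
  rw [show (1 : G) = ((1 : (T : Subgroup G)) : G) from rfl, psi_apply]
  simp only [map_one, Units.val_one]
  norm_num

theorem psi_inv (l : ↥(T : Subgroup G) →* ℂˣ) : psi T l⁻¹ = psi T l := by
  funext v
  simp only [psi, linv_inv]
  split_ifs <;> ring

theorem psi_inv_arg (l : ↥(T : Subgroup G) →* ℂˣ) {v : G} (hv : v ∈ (T : Subgroup G)) :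
    psi T l v⁻¹ = psi T l v := by
  have h := psi_apply (T := T) l (⟨v, hv⟩ : (T : Subgroup G))⁻¹
  have h' := psi_apply (T := T) l (⟨v, hv⟩ : (T : Subgroup G))
  simp only [Subgroup.coe_inv, map_inv, MonoidHom.inv_apply, inv_inv] at h h'
  rw [h, h']
  ring

theorem psi_stable (hP : Pairs T) (l : ↥(T : Subgroup G) →* ℂˣ) : Stable T (psi T l) := by
  intro u hu v hv h
  by_cases hu1 : u = 1
  · subst hu1
    rw [isConj_one_right] at h
    rw [h]
  rcases (hP u hu hu1).2 v hv h with rfl | rfl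
  · rfl
  · exact (psi_inv_arg l hu).symm

theorem psi_genChar (hP : Pairs T) (l : ↥(T : Subgroup G) →* ℂˣ) :
    IsGeneralizedCharacter G (lift T (psi T l)) := by
  refine isGenChar_lift (psi_stable hP l) ?_
  haveI := Fintype.ofFinite (T : Subgroup G)
  have h : (fun v : (T : Subgroup G) => psi T l v) = (fun _ => (1 : ℂ)) + (fun _ => (1 : ℂ)) -
      (fun v => (l v : ℂ)) - (fun v => (l⁻¹ v : ℂ)) := by
    funext v
    simp only [psi_apply, Pi.sub_apply, Pi.add_apply]
    norm_num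
  rw [h]
  exact IsGenChar.sub (IsGenChar.sub (IsGenChar.add (IsGenChar.of_isCharacter IsChar.one)
    (IsGenChar.of_isCharacter IsChar.one))
    (IsGenChar.of_isCharacter (IsIrr.isCharacter (isIrr_linear l))))
    (IsGenChar.of_isCharacter (IsIrr.isCharacter (isIrr_linear l⁻¹)))

theorem sum_lin [Fintype (T : Subgroup G)] (hcard : Nat.card (T : Subgroup G) = 9)
    (l : ↥(T : Subgroup G) →* ℂˣ) :
    ∑ v : (T : Subgroup G), (l v : ℂ) = if l = 1 then 9 else 0 := by
  split_ifs with h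
  · subst h
    simp [← Nat.card_eq_fintype_card, hcard]
  · obtain ⟨w, hw⟩ : ∃ w, l w ≠ 1 := by
      by_contra hc
      push Not at hc
      exact h (MonoidHom.ext hc)
    have h1 : (l w : ℂ) * ∑ v : (T : Subgroup G), (l v : ℂ) = ∑ v : (T : Subgroup G), (l v : ℂ) := by
      rw [Finset.mul_sum]
      exact Fintype.sum_equiv (Equiv.mulLeft w) _ _ fun v => by simp
    have h2 : ((l w : ℂ) - 1) * ∑ v : (T : Subgroup G), (l v : ℂ) = 0 := by
      rw [sub_mul, one_mul, h1, sub_self]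
    exact (mul_eq_zero.1 h2).resolve_left (sub_ne_zero.2 fun e => hw (Units.ext e))

theorem lin_conj [Finite G] (l : ↥(T : Subgroup G) →* ℂˣ) (v : (T : Subgroup G)) :
    conj (l v : ℂ) = (l⁻¹ v : ℂ) := by
  have h := IsChar.apply_inv (IsIrr.isCharacter (isIrr_linear l)) v
  simp only [map_inv] at h
  rw [MonoidHom.inv_apply]
  exact h.symm

theorem ne_inv (hcard : Nat.card (T : Subgroup G) = 9) {l : ↥(T : Subgroup G) →* ℂˣ} (hl : l ≠ 1) :
    l ≠ l⁻¹ := by
  intro e
  apply hl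
  refine MonoidHom.ext fun v => ?_
  have h2 : l v * l v = 1 := by
    nth_rewrite 2 [e]
    rw [MonoidHom.inv_apply, mul_inv_cancel]
  have h9 : l v ^ 9 = 1 := by rw [← map_pow, ← hcard, pow_card_eq_one', map_one]
  have h3 : l v ^ 9 = l v := by
    rw [show 9 = 2 * 4 + 1 by norm_num, pow_add, pow_mul, pow_two, h2, one_pow, one_mul, pow_one]
  rw [h9] at h3
  rw [← h3, MonoidHom.one_apply]

theorem dual_card (hcard : Nat.card (T : Subgroup G) = 9) [Fintype (↥(T : Subgroup G) →* ℂˣ)] :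
    Fintype.card (↥(T : Subgroup G) →* ℂˣ) = 9 := by
  letI : CommGroup (T : Subgroup G) :=
    { (inferInstance : Group (T : Subgroup G)) with
      mul_comm := (abelian_nine T hcard).is_comm.comm }
  rw [← Nat.card_eq_fintype_card, CommGroup.card_monoidHom_of_hasEnoughRootsOfUnity, hcard]

theorem inner_sum (hP : Pairs T) (hcard : Nat.card (T : Subgroup G) = 9) [Fintype (T : Subgroup G)]
    {M : Ideal AlgInt} (hM : IsPModular 3 M) {ψ : G → ℂ} (hψ : Stable T ψ) (hψ1 : ψ 1 = 0)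
    (χ : IrrCharacter G) (hχ : χ ∈ principalBlock M G) :
    classInner (lift T ψ) (χ : G → ℂ) =
      1 / 18 * ∑ v : (T : Subgroup G), ψ v * conj ((χ : G → ℂ) v) := by
  classical
  have hab := abelian_nine T hcard
  rw [inner_lift hψ, sum_sylow, Finset.mul_sum]
  refine Finset.sum_congr rfl fun v _ => ?_
  by_cases hv1 : (v : G) = 1
  · simp [hv1, hψ1]
  · rw [T_one_left hM T v.2 hab (hP.complement T hcard v.2 hv1) χ hχ, cnum_eq_cls,
      hP.card_cls T hcard v.2 hv1, hcard]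
    push_cast
    ring

theorem psi_conj (l : ↥(T : Subgroup G) →* ℂˣ) (v : (T : Subgroup G)) :
    conj (psi T l v) = psi T l v := by
  rw [psi_apply, map_sub, map_sub, map_ofNat, lin_conj, lin_conj, linv_inv]
  ring

open Classical in
theorem inner_psi (hP : Pairs T) (hcard : Nat.card (T : Subgroup G) = 9) {M : Ideal AlgInt}
    (hM : IsPModular 3 M) {l m : ↥(T : Subgroup G) →* ℂˣ} (hl : l ≠ 1) (hm : m ≠ 1) :
    classInner (lift T (psi T l)) (lift T (psi T m)) =
      if m = l ∨ m = l⁻¹ then 3 else 2 := by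
  classical
  haveI := Fintype.ofFinite (T : Subgroup G)
  have hab := abelian_nine T hcard
  have h18 : classInner (lift T (psi T l)) (lift T (psi T m)) =
      1 / 18 * ∑ v : (T : Subgroup G), psi T l v * psi T m v := by
    rw [inner_lift_lift (psi_stable hP l) (psi_stable hP m), sum_sylow, Finset.mul_sum]
    refine Finset.sum_congr rfl fun v _ => ?_
    by_cases hv1 : (v : G) = 1
    · simp [hv1, psi_one]
    · rw [T_one_rank_one hM T v.2 hab (hP.complement T hcard v.2 hv1), cnum_eq_cls,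
        hP.card_cls T hcard v.2 hv1, hcard, psi_conj]
      push_cast
      ring
  have hexp : ∀ v : (T : Subgroup G), psi T l v * psi T m v =
      4 * (((1 : ↥(T : Subgroup G) →* ℂˣ) v : ℂ)) - 2 * (l v : ℂ) - 2 * (l⁻¹ v : ℂ) -
        2 * (m v : ℂ) - 2 * (m⁻¹ v : ℂ) + ((l * m) v : ℂ) + ((l * m⁻¹) v : ℂ) +
        ((l⁻¹ * m) v : ℂ) + ((l⁻¹ * m⁻¹) v : ℂ) := by
    intro v
    simp only [psi_apply, MonoidHom.one_apply, MonoidHom.mul_apply, Units.val_one, Units.val_mul]
    ring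
  rw [h18, Finset.sum_congr rfl fun v _ => hexp v]
  simp only [Finset.sum_add_distrib, Finset.sum_sub_distrib, ← Finset.mul_sum, sum_lin hcard,
    linv_one, hl, hm, if_false, lmul_one, linv_inv]
  have e2 : (m⁻¹ = l⁻¹) = (m = l) := propext ⟨fun h => by rw [← linv_inv m, h, linv_inv],
    fun h => by rw [h]⟩
  have e3 : (m⁻¹ = l) = (m = l⁻¹) := propext ⟨fun h => by rw [← linv_inv m, h],
    fun h => by rw [h, linv_inv]⟩
  simp only [e2, e3]
  by_cases h1 : m = l
  · have h2 : m ≠ l⁻¹ := fun h => ne_inv hcard hl (h1.symm.trans h)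
    subst h1
    simp only [h2, if_false, true_or, if_true]
    norm_num
  · by_cases h2 : m = l⁻¹
    · simp only [h1, h2, if_false, or_true, if_true]
      norm_num [ne_inv hcard hl, Ne.symm (ne_inv hcard hl)]
    · simp only [h1, h2, or_self, if_false]
      norm_num

theorem inner_psi_one (hP : Pairs T) (hcard : Nat.card (T : Subgroup G) = 9) {M : Ideal AlgInt}
    (hM : IsPModular 3 M) {l : ↥(T : Subgroup G) →* ℂˣ} (hl : l ≠ 1) :
    classInner (lift T (psi T l)) (trivialIrr G : G → ℂ) = 1 := by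
  classical
  haveI := Fintype.ofFinite (T : Subgroup G)
  rw [inner_sum hP hcard hM (psi_stable hP l) (psi_one l) _ (trivial_mem_principalBlock hM)]
  have hexp : ∀ v : (T : Subgroup G), psi T l v * conj ((trivialIrr G : G → ℂ) v) =
      2 * (((1 : ↥(T : Subgroup G) →* ℂˣ) v : ℂ)) - (l v : ℂ) - (l⁻¹ v : ℂ) := fun v => by
    simp [psi_apply, trivialIrr]
  rw [Finset.sum_congr rfl fun v _ => hexp v]
  simp only [Finset.sum_sub_distrib, ← Finset.mul_sum, sum_lin hcard, linv_one, hl, if_false]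
  norm_num

/-- Recovering values: a character pairing equally with every lifted function is constant off one. -/
theorem value_const (hP : Pairs T) (hcard : Nat.card (T : Subgroup G) = 9) {M : Ideal AlgInt}
    (hM : IsPModular 3 M) (χ : IrrCharacter G) (hχ : χ ∈ principalBlock M G) (s : ℤ)
    (h : ∀ l : ↥(T : Subgroup G) →* ℂˣ, l ≠ 1 →
      classInner (lift T (psi T l)) (χ : G → ℂ) = (s : ℂ))
    {v : G} (hv : v ∈ (T : Subgroup G)) (hv1 : v ≠ 1) : (χ : G → ℂ) v = (s : ℂ) := by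
  classical
  haveI := Fintype.ofFinite (T : Subgroup G)
  haveI := Fintype.ofFinite (↥(T : Subgroup G) →* ℂˣ)
  have hcomm : ∀ x y : (T : Subgroup G), x * y = y * x := fun x y =>
    (abelian_nine T hcard).is_comm.comm x y
  have hdual : Fintype.card (↥(T : Subgroup G) →* ℂˣ) = 9 := dual_card hcard
  set v' : (T : Subgroup G) := ⟨v, hv⟩ with hv'
  have hne : v' ≠ 1 := fun e => hv1 (congrArg Subtype.val e)
  set g : ↥(T : Subgroup G) → ℂ := fun w => conj ((χ : G → ℂ) w) with hg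
  have hlhs : ∑ l : ↥(T : Subgroup G) →* ℂˣ,
      (l v'⁻¹ : ℂ) * classInner (lift T (psi T l)) (χ : G → ℂ) = - (s : ℂ) := by
    rw [← Finset.add_sum_erase _ _ (Finset.mem_univ (1 : ↥(T : Subgroup G) →* ℂˣ))]
    have h1 : psi T (1 : ↥(T : Subgroup G) →* ℂˣ) = fun _ => 0 := by
      funext w
      simp only [psi, inv_one, MonoidHom.one_apply, Units.val_one]
      split_ifs <;> norm_num
    rw [inner_sum hP hcard hM (psi_stable hP 1) (psi_one 1) χ hχ, h1,
      Finset.sum_congr (s₁ := Finset.univ.erase (1 : ↥(T : Subgroup G) →* ℂˣ)) rfl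
        (g := fun l => (l v'⁻¹ : ℂ) * (s : ℂ)) fun l hl => by rw [h l (Finset.mem_erase.1 hl).1]]
    simp only [zero_mul, Finset.sum_const_zero, mul_zero, zero_add]
    have h0 := TIFamily.dual_sum hcomm (inv_ne_one.2 hne)
    rw [← Finset.add_sum_erase _ _ (Finset.mem_univ (1 : ↥(T : Subgroup G) →* ℂˣ))] at h0
    simp only [MonoidHom.one_apply, Units.val_one] at h0
    rw [← Finset.sum_mul, eq_neg_of_add_eq_zero_right h0, neg_mul, one_mul]
  have hinner : ∀ w : (T : Subgroup G), ∑ l : ↥(T : Subgroup G) →* ℂˣ,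
      (l v'⁻¹ : ℂ) * psi T l w = -((if w = v' then 9 else 0) + (if w = v'⁻¹ then 9 else 0)) := by
    intro w
    have hexp : ∀ l : ↥(T : Subgroup G) →* ℂˣ, (l v'⁻¹ : ℂ) * psi T l w =
        2 * (l v'⁻¹ : ℂ) - (l (v'⁻¹ * w) : ℂ) - (l (v'⁻¹ * w⁻¹) : ℂ) := by
      intro l
      rw [psi_apply, map_mul, map_mul, map_inv l w, MonoidHom.inv_apply, Units.val_mul,
        Units.val_mul]
      ring
    have hd : ∀ u : (T : Subgroup G), ∑ l : ↥(T : Subgroup G) →* ℂˣ, (l u : ℂ) =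
        if u = 1 then 9 else 0 := fun u => by
      split_ifs with hu
      · subst hu
        simp [hdual]
      · exact TIFamily.dual_sum hcomm hu
    rw [Finset.sum_congr rfl fun l _ => hexp l, Finset.sum_sub_distrib, Finset.sum_sub_distrib,
      ← Finset.mul_sum, hd, hd, hd, if_neg (inv_ne_one.2 hne)]
    have e1 : (v'⁻¹ * w = 1) = (w = v') := propext (inv_mul_eq_one.trans eq_comm)
    have e2 : (v'⁻¹ * w⁻¹ = 1) = (w = v'⁻¹) := propext ⟨fun e => by
      rw [inv_mul_eq_one] at e; rw [e, inv_inv], fun e => by rw [e]; simp⟩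
    simp only [e1, e2]
    ring
  have hcalc : ∑ l : ↥(T : Subgroup G) →* ℂˣ,
      (l v'⁻¹ : ℂ) * classInner (lift T (psi T l)) (χ : G → ℂ) = -(g v' + g v'⁻¹) / 2 := by
    calc _ = ∑ l : ↥(T : Subgroup G) →* ℂˣ, ∑ w : (T : Subgroup G),
          1 / 18 * ((l v'⁻¹ : ℂ) * psi T l w * g w) := by
          refine Finset.sum_congr rfl fun l _ => ?_
          rw [inner_sum hP hcard hM (psi_stable hP l) (psi_one l) χ hχ, Finset.mul_sum,
            Finset.mul_sum]
          exact Finset.sum_congr rfl fun w _ => by simp only [g]; ring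
      _ = ∑ w : (T : Subgroup G),
          1 / 18 * ((-((if w = v' then 9 else 0) + (if w = v'⁻¹ then 9 else 0))) * g w) := by
          rw [Finset.sum_comm]
          refine Finset.sum_congr rfl fun w _ => ?_
          rw [← hinner w, Finset.sum_mul, Finset.mul_sum]
      _ = _ := by
          simp only [neg_add, add_mul, mul_add, Finset.sum_add_distrib, neg_mul, ite_mul, zero_mul,
            mul_neg, mul_ite, mul_zero, Finset.sum_neg_distrib, Finset.sum_ite_eq',
            Finset.mem_univ, if_true]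
          ring
  have hsame : g v'⁻¹ = g v' := by
    obtain ⟨c, hc⟩ := isConj_iff.1 (hP v hv hv1).1
    simp only [g]
    congr 1
    show (χ : G → ℂ) v⁻¹ = (χ : G → ℂ) v
    rw [← hc, irr_classFun χ v c]
  rw [hsame, hlhs] at hcalc
  have hgv : g v' = (s : ℂ) := by linear_combination hcalc
  have := congrArg conj hgv
  rwa [show conj (g v') = (χ : G → ℂ) v by simp [g, hv'], map_intCast] at this

/-- Two vectors of norm two with inner product one share one entry. -/
theorem common {ι : Type*} [Fintype ι] {a b : ι → ℤ} {x y z w : ι} (hxy : x ≠ y) (hzw : z ≠ w)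
    (ha : ∀ i, a i ≠ 0 ↔ i = x ∨ i = y) (hb : ∀ i, b i ≠ 0 ↔ i = z ∨ i = w)
    (hsx : a x = 1 ∨ a x = -1) (hsy : a y = 1 ∨ a y = -1)
    (hsz : b z = 1 ∨ b z = -1) (hsw : b w = 1 ∨ b w = -1) (h : ∑ i, a i * b i = 1) :
    (a x * b x = 1 ∧ a y * b y = 0) ∨ (a x * b x = 0 ∧ a y * b y = 1) := by
  classical
  have hs : ∑ i, a i * b i = a x * b x + a y * b y := by
    rw [← Finset.sum_subset (Finset.subset_univ ({x, y} : Finset ι)) fun i _ hi => by
      simp only [Finset.mem_insert, Finset.mem_singleton] at hi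
      rw [show a i = 0 from not_not.1 fun hh => hi ((ha i).1 hh), zero_mul], Finset.sum_pair hxy]
  have hval : ∀ i, b i = 0 ∨ b i = 1 ∨ b i = -1 := fun i => by
    by_cases hi : b i = 0
    · exact Or.inl hi
    · rcases (hb i).1 hi with rfl | rfl
      · exact Or.inr hsz
      · exact Or.inr hsw
  rw [h] at hs
  rcases hval x with e | e | e <;> rcases hval y with e' | e' | e' <;>
    rcases hsx with f | f <;> rcases hsy with f' | f' <;> simp [e, e', f, f'] at hs ⊢

/-- The conclusion. -/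
theorem of_pairs (hP : Pairs T) (hcard : Nat.card (T : Subgroup G) = 9) :
    ∃ θ E : IrrCharacter G, θ ≠ trivialIrr G ∧ E ≠ trivialIrr G ∧
      (∀ k : ℕ, k.Coprime (Nat.card G) → ∀ g, (θ : G → ℂ) (g ^ k) = (θ : G → ℂ) g) ∧
      ¬ 3 ∣ charDegree (θ : G → ℂ) ∧ ¬ 3 ∣ charDegree (E : G → ℂ) ∧
      (charDegree (θ : G → ℂ) + 1 = charDegree (E : G → ℂ) ∨
        charDegree (E : G → ℂ) + 1 = charDegree (θ : G → ℂ)) ∧
      (charDegree (θ : G → ℂ) % 9 = 1 ∨ charDegree (θ : G → ℂ) % 9 = 8) := by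
  classical
  obtain ⟨M, hM⟩ := exists_isPModular 3 Nat.prime_three
  haveI := Fintype.ofFinite (T : Subgroup G)
  haveI := Fintype.ofFinite (↥(T : Subgroup G) →* ℂˣ)
  have hdual : Fintype.card (↥(T : Subgroup G) →* ℂˣ) = 9 := dual_card hcard
  -- coefficients
  have data : ∀ l : {l : ↥(T : Subgroup G) →* ℂˣ // l ≠ 1}, _ := fun l =>
    three_terms (psi_genChar hP l.1) (by rw [inner_psi hP hcard hM l.2 l.2, if_pos (Or.inl rfl)])
      (inner_psi_one hP hcard hM l.2) (by rw [lift_one (psi_stable hP l.1), psi_one])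
  choose c hc hcτ X Y hXY hX hY hsX hsY honly hdeg hsum using data
  have hsupp : ∀ l χ, (χ ≠ trivialIrr G ∧ c l χ ≠ 0) ↔ (χ = X l ∨ χ = Y l) := by
    intro l χ
    refine ⟨fun h => (honly l χ h.2).resolve_left h.1, ?_⟩
    rintro (rfl | rfl)
    · exact ⟨hX l, by rcases hsX l with e | e <;> rw [e] <;> norm_num⟩
    · exact ⟨hY l, by rcases hsY l with e | e <;> rw [e] <;> norm_num⟩
  set c' : {l : ↥(T : Subgroup G) →* ℂˣ // l ≠ 1} → IrrCharacter G → ℤ :=
    fun l χ => if χ = trivialIrr G then 0 else c l χ with hc'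
  have hc'X : ∀ l, c' l (X l) = c l (X l) := fun l => if_neg (hX l)
  have hc'Y : ∀ l, c' l (Y l) = c l (Y l) := fun l => if_neg (hY l)
  have hc'supp : ∀ l χ, c' l χ ≠ 0 ↔ χ = X l ∨ χ = Y l := by
    intro l χ
    rw [← hsupp l χ]
    simp only [c']
    split_ifs with h <;> simp [h]
  have hinner : ∀ l m, ¬ (m.1 = l.1 ∨ m.1 = l.1⁻¹) → ∑ χ, c' l χ * c' m χ = 1 := by
    intro l m hne
    have h := inner_eq_sum (psi_genChar hP m.1) (hc l) (hc m)
    rw [inner_psi hP hcard hM l.2 m.2, if_neg hne] at h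
    have h2 : ∑ χ, c l χ * c m χ = 2 := by exact_mod_cast h.symm
    rw [← Finset.add_sum_erase _ _ (Finset.mem_univ (trivialIrr G)), hcτ, hcτ] at h2
    rw [← Finset.add_sum_erase _ _ (Finset.mem_univ (trivialIrr G)),
      Finset.sum_congr rfl (g := fun χ => c l χ * c m χ) fun χ hχ => by
        simp only [c', if_neg (Finset.ne_of_mem_erase hχ)]]
    simp only [c', if_pos]
    linarith
  have hcom : ∀ l m, ¬ (m.1 = l.1 ∨ m.1 = l.1⁻¹) →
      (c' l (X l) * c' m (X l) = 1 ∧ c' l (Y l) * c' m (Y l) = 0) ∨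
      (c' l (X l) * c' m (X l) = 0 ∧ c' l (Y l) * c' m (Y l) = 1) := fun l m hne =>
    common (hXY l) (hXY m) (hc'supp l) (hc'supp m) (by rw [hc'X]; exact hsX l)
      (by rw [hc'Y]; exact hsY l) (by rw [hc'X]; exact hsX m) (by rw [hc'Y]; exact hsY m)
      (hinner l m hne)
  -- four classes of linear characters
  have hpick : ∀ S : Finset (↥(T : Subgroup G) →* ℂˣ), S.card ≤ 8 → ∃ l, l ∉ S := fun S hS => by
    obtain ⟨l, -, hl⟩ := Finset.exists_mem_notMem_of_card_lt_card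
      (show S.card < (Finset.univ : Finset (↥(T : Subgroup G) →* ℂˣ)).card by
        rw [Finset.card_univ, hdual]; omega)
    exact ⟨l, hl⟩
  obtain ⟨l₀, hl₀⟩ := hpick {1} (by simp)
  obtain ⟨l₁, hl₁⟩ := hpick {1, l₀, l₀⁻¹} (Finset.card_le_three.trans (by norm_num))
  obtain ⟨l₂, hl₂⟩ := hpick {1, l₀, l₀⁻¹, l₁, l₁⁻¹}
    (Finset.card_le_five.trans (by norm_num))
  obtain ⟨l₃, hl₃⟩ := hpick {1, l₀, l₀⁻¹, l₁, l₁⁻¹, l₂, l₂⁻¹} (by
    calc _ ≤ 7 := (Finset.card_insert_le _ _).trans (Nat.add_le_add_right Finset.card_le_six 1)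
      _ ≤ 8 := by norm_num)
  simp only [Finset.mem_insert, Finset.mem_singleton, not_or] at hl₀ hl₁ hl₂ hl₃
  set L₀ : {l : ↥(T : Subgroup G) →* ℂˣ // l ≠ 1} := ⟨l₀, hl₀⟩
  set L₁ : {l : ↥(T : Subgroup G) →* ℂˣ // l ≠ 1} := ⟨l₁, hl₁.1⟩
  set L₂ : {l : ↥(T : Subgroup G) →* ℂˣ // l ≠ 1} := ⟨l₂, hl₂.1⟩
  set L₃ : {l : ↥(T : Subgroup G) →* ℂˣ // l ≠ 1} := ⟨l₃, hl₃.1⟩
  have h01 : ¬ (L₁.1 = L₀.1 ∨ L₁.1 = L₀.1⁻¹) := not_or.2 ⟨hl₁.2.1, hl₁.2.2⟩
  obtain ⟨θ, E, hθ0, hE0, hθE, hθ1⟩ : ∃ θ E, (θ = X L₀ ∨ θ = Y L₀) ∧ (E = X L₀ ∨ E = Y L₀) ∧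
      θ ≠ E ∧ c' L₀ θ * c' L₁ θ = 1 ∧ c' L₁ E = 0 := by
    rcases hcom L₀ L₁ h01 with ⟨h1, h2⟩ | ⟨h1, h2⟩
    · exact ⟨X L₀, Y L₀, Or.inl rfl, Or.inr rfl, hXY L₀, h1,
        (mul_eq_zero.1 h2).resolve_left ((hc'supp L₀ _).2 (Or.inr rfl))⟩
    · exact ⟨Y L₀, X L₀, Or.inr rfl, Or.inl rfl, (hXY L₀).symm, h2,
        (mul_eq_zero.1 h1).resolve_left ((hc'supp L₀ _).2 (Or.inl rfl))⟩
  set s := c' L₀ θ with hs
  have hsval : s = 1 ∨ s = -1 := by
    rcases hθ0 with rfl | rfl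
    · rw [hs, hc'X]; exact hsX L₀
    · rw [hs, hc'Y]; exact hsY L₀
  have hprod : ∀ m : {l : ↥(T : Subgroup G) →* ℂˣ // l ≠ 1},
      s * c' m θ = 1 ↔ c' m θ = s := fun m => by
    rcases hsval with h | h <;> rw [h] <;> constructor <;> intro hh <;> omega
  have h1θ : c' L₁ θ = s := (hprod L₁).1 hθ1.1
  -- membership at the common point
  have hmiss : ∀ m : {l : ↥(T : Subgroup G) →* ℂˣ // l ≠ 1},
      ¬ (m.1 = L₀.1 ∨ m.1 = L₀.1⁻¹) →
      c' m θ = s ∨ (c' m θ = 0 ∧ c' m E = c' L₀ E) := by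
    intro m hm
    have := hcom L₀ m hm
    have hpr : (c' L₀ θ * c' m θ = 1 ∧ c' L₀ E * c' m E = 0) ∨
        (c' L₀ θ * c' m θ = 0 ∧ c' L₀ E * c' m E = 1) := by
      rcases hθ0 with rfl | rfl <;> rcases hE0 with rfl | rfl
      · exact absurd rfl hθE
      · exact this
      · exact this.symm.imp And.symm And.symm
      · exact absurd rfl hθE
    rcases hpr with ⟨h1, -⟩ | ⟨h1, h2⟩
    · exact Or.inl ((hprod m).1 h1)
    · refine Or.inr ⟨(mul_eq_zero.1 h1).resolve_left ((hc'supp L₀ θ).2 hθ0), ?_⟩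
      rcases Int.mul_eq_one_iff_eq_one_or_neg_one.1 h2 with ⟨e, e'⟩ | ⟨e, e'⟩ <;> rw [e, e']
  have hthird : ∀ m : {l : ↥(T : Subgroup G) →* ℂˣ // l ≠ 1},
      ¬ (m.1 = L₀.1 ∨ m.1 = L₀.1⁻¹) → c' m θ = 0 → c' m E ≠ 0 := fun m hm h0 => by
    rw [((hmiss m hm).resolve_left fun e => by rw [h0] at e; omega).2]
    exact (hc'supp L₀ E).2 hE0
  have hnotboth : ∀ m n : {l : ↥(T : Subgroup G) →* ℂˣ // l ≠ 1},
      ¬ (m.1 = L₀.1 ∨ m.1 = L₀.1⁻¹) → ¬ (n.1 = L₀.1 ∨ n.1 = L₀.1⁻¹) →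
      ¬ (n.1 = m.1 ∨ n.1 = m.1⁻¹) →
      ¬ (m.1 = L₁.1 ∨ m.1 = L₁.1⁻¹) → ¬ (n.1 = L₁.1 ∨ n.1 = L₁.1⁻¹) →
      c' m θ = 0 → c' n θ = 0 → False := by
    intro m n hm hn hmn hm1 hn1 hm0 hn0
    obtain ⟨z, hz, hzθ⟩ : ∃ z, (∀ χ, c' L₁ χ ≠ 0 → χ = θ ∨ χ = z) ∧ z ≠ θ := by
      rcases (hc'supp L₁ θ).1 (by rw [h1θ]; omega) with e | e
      · exact ⟨Y L₁, fun χ h => e ▸ (hc'supp L₁ χ).1 h, e ▸ (hXY L₁).symm⟩
      · exact ⟨X L₁, fun χ h => e ▸ ((hc'supp L₁ χ).1 h).symm, e ▸ hXY L₁⟩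
    have hL1 : ∀ k : {l : ↥(T : Subgroup G) →* ℂˣ // l ≠ 1},
        ¬ (k.1 = L₁.1 ∨ k.1 = L₁.1⁻¹) → c' k θ = 0 → c' L₁ z * c' k z = 1 := by
      intro k hk hk0
      have h := hinner L₁ k hk
      rw [Finset.sum_eq_single z (fun χ _ hne => by
        by_cases hc : c' L₁ χ = 0
        · rw [hc, zero_mul]
        · rcases hz χ hc with rfl | rfl
          · rw [hk0, mul_zero]
          · exact absurd rfl hne) (fun h => absurd (Finset.mem_univ z) h)] at h
      exact h
    have hzE : z ≠ E := fun e => by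
      have := hL1 m hm1 hm0
      rw [e, hθ1.2, zero_mul] at this
      omega
    have h1 := hinner m n hmn
    have hmE := ((hmiss m hm).resolve_left fun e => by rw [hm0] at e; omega).2
    have hnE := ((hmiss n hn).resolve_left fun e => by rw [hn0] at e; omega).2
    have hmz := hL1 m hm1 hm0
    have hnz := hL1 n hn1 hn0
    have hmzn : c' m z = c' n z := by
      rcases Int.mul_eq_one_iff_eq_one_or_neg_one.1 hmz with ⟨e, e'⟩ | ⟨e, e'⟩ <;>
        rcases Int.mul_eq_one_iff_eq_one_or_neg_one.1 hnz with ⟨f, f'⟩ | ⟨f, f'⟩ <;> omega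
    have hmsupp : ∀ χ, c' m χ ≠ 0 → χ = E ∨ χ = z := fun χ h => by
      have hEm : c' m E ≠ 0 := hthird m hm hm0
      have hzm : c' m z ≠ 0 := right_ne_zero_of_mul_eq_one hmz
      rcases (hc'supp m χ).1 h with rfl | rfl <;> rcases (hc'supp m E).1 hEm with e | e <;>
        rcases (hc'supp m z).1 hzm with f | f <;>
        first | exact Or.inl e.symm | exact Or.inr f.symm | exact absurd (f.trans e.symm) hzE
    rw [← Finset.sum_subset (Finset.subset_univ ({E, z} : Finset _)) (fun χ _ hχ => by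
        rw [show c' m χ = 0 from not_not.1 fun h => hχ (by simpa using hmsupp χ h), zero_mul]),
      Finset.sum_pair hzE.symm, hmE, hnE, hmzn] at h1
    have e1 : c' L₀ E * c' L₀ E = 1 := by
      rcases hE0 with rfl | rfl
      · rcases hsX L₀ with e | e <;> rw [hc'X, e] <;> norm_num
      · rcases hsY L₀ with e | e <;> rw [hc'Y, e] <;> norm_num
    have e2 : c' n z * c' n z = 1 := by
      rcases Int.mul_eq_one_iff_eq_one_or_neg_one.1 hnz with ⟨f, f'⟩ | ⟨f, f'⟩ <;> rw [f'] <;>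
        norm_num
    omega
  have h02 : ¬ (L₂.1 = L₀.1 ∨ L₂.1 = L₀.1⁻¹) := not_or.2 ⟨hl₂.2.1, hl₂.2.2.1⟩
  have h12 : ¬ (L₂.1 = L₁.1 ∨ L₂.1 = L₁.1⁻¹) := not_or.2 ⟨hl₂.2.2.2.1, hl₂.2.2.2.2⟩
  have h03 : ¬ (L₃.1 = L₀.1 ∨ L₃.1 = L₀.1⁻¹) := not_or.2 ⟨hl₃.2.1, hl₃.2.2.1⟩
  have h13 : ¬ (L₃.1 = L₁.1 ∨ L₃.1 = L₁.1⁻¹) := not_or.2 ⟨hl₃.2.2.2.1, hl₃.2.2.2.2.1⟩
  have h23 : ¬ (L₃.1 = L₂.1 ∨ L₃.1 = L₂.1⁻¹) := not_or.2 ⟨hl₃.2.2.2.2.2.1, hl₃.2.2.2.2.2.2⟩
  -- every vector contains the common point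
  have hall : ∀ m : {l : ↥(T : Subgroup G) →* ℂˣ // l ≠ 1}, c' m θ = s := by
    have hsame : ∀ m k : {l : ↥(T : Subgroup G) →* ℂˣ // l ≠ 1},
        (m.1 = k.1 ∨ m.1 = k.1⁻¹) → ∀ χ, c' m χ = c' k χ := by
      intro m k h χ
      have hψ : psi T m.1 = psi T k.1 := by
        rcases h with h | h
        · rw [h]
        · rw [h, psi_inv]
      have : c m χ = c k χ := by
        have h1 := hc m χ
        rw [hψ, hc k χ] at h1
        exact_mod_cast h1.symm
      simp only [c', this]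
    obtain ⟨K, hK0, hK1, hKθ⟩ : ∃ K : {l : ↥(T : Subgroup G) →* ℂˣ // l ≠ 1},
        ¬ (K.1 = L₀.1 ∨ K.1 = L₀.1⁻¹) ∧ ¬ (K.1 = L₁.1 ∨ K.1 = L₁.1⁻¹) ∧ c' K θ = s := by
      rcases hmiss L₂ h02 with h | ⟨h, -⟩
      · exact ⟨L₂, h02, h12, h⟩
      rcases hmiss L₃ h03 with h' | ⟨h', -⟩
      · exact ⟨L₃, h03, h13, h'⟩
      exact (hnotboth L₂ L₃ h02 h03 h23 h12 h13 h h').elim
    intro m
    by_cases e0 : m.1 = L₀.1 ∨ m.1 = L₀.1⁻¹
    · rw [hsame m L₀ e0]
    by_cases e1 : m.1 = L₁.1 ∨ m.1 = L₁.1⁻¹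
    · rw [hsame m L₁ e1, h1θ]
    by_cases e2 : m.1 = K.1 ∨ m.1 = K.1⁻¹
    · rw [hsame m K e2, hKθ]
    rcases hmiss m e0 with h | ⟨h, -⟩
    · exact h
    exfalso
    have hmE := hthird m e0 h
    have h1 := hinner K m e2
    have hKE : c' K E = 0 := by
      by_contra hne
      have hh := hinner L₀ K hK0
      rw [← Finset.sum_subset (Finset.subset_univ ({θ, E} : Finset _)) (fun χ _ hχ => by
        rw [show c' L₀ χ = 0 from not_not.1 fun hc => hχ (by
          rcases (hc'supp L₀ χ).1 hc with rfl | rfl <;> rcases hθ0 with rfl | rfl <;>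
            rcases hE0 with rfl | rfl <;>
            first | exact absurd rfl hθE | simp), zero_mul]),
        Finset.sum_pair hθE, hKθ] at hh
      have : s * s = 1 := by rcases hsval with e | e <;> rw [e] <;> norm_num
      rw [← hs, this] at hh
      have h0 : c' L₀ E * c' K E = 0 := by omega
      exact hne ((mul_eq_zero.1 h0).resolve_left ((hc'supp L₀ E).2 hE0))
    -- the other entry of `m` lies on the vectors of `L₁` and `K`
    obtain ⟨z, hz⟩ : ∃ z, c' L₁ z * c' m z ≠ 0 ∧ z ≠ θ ∧ z ≠ E := by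
      have hh := hinner L₁ m e1
      obtain ⟨z, -, hz⟩ := Finset.exists_ne_zero_of_sum_ne_zero (hh.symm ▸ one_ne_zero :
        ∑ χ, c' L₁ χ * c' m χ ≠ 0)
      exact ⟨z, hz, fun e => hz (by rw [e, h, mul_zero]), fun e => hz (by rw [e, hθ1.2, zero_mul])⟩
    obtain ⟨z', hz'⟩ : ∃ z', c' K z' * c' m z' ≠ 0 := by
      obtain ⟨z', -, hz'⟩ := Finset.exists_ne_zero_of_sum_ne_zero (h1.symm ▸ one_ne_zero :
        ∑ χ, c' K χ * c' m χ ≠ 0)
      exact ⟨z', hz'⟩
    have hz'θ : z' ≠ θ := fun e => hz' (by rw [e, h, mul_zero])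
    have hz'E : z' ≠ E := fun e => hz' (by rw [e, hKE, zero_mul])
    have hzz : z' = z := by
      rcases (hc'supp m z).1 (right_ne_zero_of_mul hz.1) with e | e <;>
        rcases (hc'supp m z').1 (right_ne_zero_of_mul hz') with f | f <;>
        rcases (hc'supp m E).1 hmE with g | g <;>
        first | exact f.trans e.symm | exact absurd (e.trans g.symm) hz.2.2 |
          exact absurd (f.trans g.symm) hz'E
    subst hzz
    have hh := hinner L₁ K hK1
    have hKs : ∀ χ, c' K χ ≠ 0 → χ = θ ∨ χ = z' := fun χ hχ => by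
      rcases (hc'supp K χ).1 hχ with e | e <;>
        rcases (hc'supp K θ).1 (by rw [hKθ]; omega) with f | f <;>
        rcases (hc'supp K z').1 (left_ne_zero_of_mul hz') with g | g <;>
        first | exact Or.inl (e.trans f.symm) | exact Or.inr (e.trans g.symm) |
          exact absurd (g.trans f.symm) hz'θ
    rw [← Finset.sum_subset (Finset.subset_univ ({θ, z'} : Finset _)) (fun χ _ hχ => by
      rw [show c' K χ = 0 from not_not.1 fun hc => hχ (by simpa using hKs χ hc), mul_zero]),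
      Finset.sum_pair (Ne.symm hz'θ), h1θ, hKθ] at hh
    have : s * s = 1 := by rcases hsval with e | e <;> rw [e] <;> norm_num
    rw [this] at hh
    exact mul_ne_zero (left_ne_zero_of_mul hz.1) (left_ne_zero_of_mul hz') (by omega)
  have hθt : θ ≠ trivialIrr G := by rcases hθ0 with rfl | rfl <;> [exact hX L₀; exact hY L₀]
  have hEt : E ≠ trivialIrr G := by rcases hE0 with rfl | rfl <;> [exact hX L₀; exact hY L₀]
  have hsc : ∀ l : ↥(T : Subgroup G) →* ℂˣ, l ≠ 1 →
      classInner (lift T (psi T l)) (θ : G → ℂ) = (s : ℂ) := by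
    intro l hl
    rw [hc ⟨l, hl⟩ θ, ← hall ⟨l, hl⟩]
    simp only [c', if_neg hθt]
  have hs0 : (s : ℂ) ≠ 0 := by rcases hsval with e | e <;> rw [e] <;> norm_num
  have hθB : θ ∈ principalBlock M G :=
    mem_principal_of_inner hM (psi_stable hP l₀) θ (by rw [hsc l₀ hl₀]; exact hs0)
  have hval := fun v (hv : v ∈ (T : Subgroup G)) hv1 => value_const hP hcard hM θ hθB s hsc hv hv1
  set d := charDegree (θ : G → ℂ) with hd
  have hd9 : ((d : ℤ) + 8 * s) % 9 = 0 := by
    obtain ⟨n, hn⟩ := IsChar.classInner_nat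
      (IsChar.res (IsIrr.isCharacter θ.2) (T : Subgroup G)) (IsChar.one (G := (T : Subgroup G)))
    simp only [classInner, map_one, mul_one, hcard] at hn
    rw [← Finset.add_sum_erase _ _ (Finset.mem_univ (1 : (T : Subgroup G))),
      Finset.sum_congr (s₁ := Finset.univ.erase (1 : (T : Subgroup G))) rfl (g := fun _ => (s : ℂ))
        (fun v hv => hval (v : G) v.2 fun e => (Finset.mem_erase.1 hv).1 (Subtype.ext e)), Finset.sum_const, Finset.card_erase_of_mem
      (Finset.mem_univ _), Finset.card_univ, ← Nat.card_eq_fintype_card, hcard,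
      OneMemClass.coe_one, charDeg_spec', ← hd, nsmul_eq_mul] at hn
    have : ((d : ℤ) + 8 * s : ℤ) = 9 * n := by
      have h9 : ((((d : ℤ) + 8 * s : ℤ)) : ℂ) = ((9 * n : ℤ) : ℂ) := by
        push_cast at hn ⊢
        linear_combination 9 * hn
      exact_mod_cast h9
    rw [this]
    exact Int.mul_emod_right 9 n
  have hdmod : d % 9 = 1 ∨ d % 9 = 8 := by rcases hsval with e | e <;> rw [e] at hd9 <;> omega
  have hrel : 1 + s * (d : ℤ) + c' L₀ E * (charDegree (E : G → ℂ) : ℤ) = 0 := by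
    have h := hdeg L₀
    rcases hθ0 with e | e <;> rcases hE0 with e' | e'
    · exact absurd (e.trans e'.symm) hθE
    · rw [hd, hs, e, e', hc'X, hc'Y]; exact h
    · rw [hd, hs, e, e', hc'X, hc'Y]; linarith
    · exact absurd (e.trans e'.symm) hθE
  have hEs : c' L₀ E = 1 ∨ c' L₀ E = -1 := by
    rcases hE0 with rfl | rfl
    · rw [hc'X]; exact hsX L₀
    · rw [hc'Y]; exact hsY L₀
  have hDpos := charDeg_pos E
  refine ⟨θ, E, hθt, hEt, fun k hk g => ?_, ?_, ?_, ?_, hdmod⟩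
  · -- rationality
    have h9 : k.Coprime 9 := by
      refine hk.coprime_dvd_right ?_
      rw [← hcard]
      exact Subgroup.card_subgroup_dvd_card _
    obtain ⟨j, hj⟩ : ∃ j, (k * j) % 9 = 1 :=
      ⟨(Nat.exists_mul_mod_eq_one_of_coprime h9 (by norm_num)).choose,
        (Nat.exists_mul_mod_eq_one_of_coprime h9 (by norm_num)).choose_spec.2⟩
    have hvk : ∀ v : (T : Subgroup G), v ^ (k * j) = v := fun v => by
      conv_rhs => rw [← pow_one v, ← hj]
      rw [← hcard]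
      exact (pow_mod_natCard v (k * j)).symm
    have htwist : ∀ l : ↥(T : Subgroup G) →* ℂˣ, l ≠ 1 →
        classInner (lift T (psi T l)) ((twist θ hk : IrrCharacter G) : G → ℂ) = (s : ℂ) := by
      intro l hl
      have hl' : l ^ j ≠ 1 := fun e => hl (MonoidHom.ext fun v => by
        conv_lhs => rw [← hvk v, mul_comm k j, pow_mul, map_pow, map_pow]
        have := DFunLike.congr_fun e v
        rw [MonoidHom.pow_apply, MonoidHom.one_apply] at this
        rw [this, one_pow, MonoidHom.one_apply])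
      rw [← hsc (l ^ j) hl', ← classInner_pow hk (lift T (psi T (l ^ j)))]
      congr 1
      funext x
      rw [lift_pow (psi_stable hP _) hk]
      have hψ : ∀ v : (T : Subgroup G), psi T (l ^ j) ((v : G) ^ k) = psi T l v := fun v => by
        rw [← Subgroup.coe_pow, psi_apply, psi_apply]
        simp only [MonoidHom.inv_apply, MonoidHom.pow_apply]
        rw [← map_pow, ← pow_mul, hvk]
      obtain ⟨h1, -⟩ := (exists_mem_conj_ppt x T).choose_spec
      exact (hψ ⟨_, h1⟩).symm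
    have hne := twist_ne_trivial hθt hk
    have hin : ∀ L : {l : ↥(T : Subgroup G) →* ℂˣ // l ≠ 1}, c' L (twist θ hk) ≠ 0 := fun L => by
      simp only [c', if_neg hne]
      intro e
      have := htwist L.1 L.2
      rw [hc L, e, Int.cast_zero] at this
      exact hs0 this.symm
    have heq : twist θ hk = θ := by
      rcases (hc'supp L₀ _).1 (hin L₀) with e | e <;> rcases hθ0 with f | f <;>
        rcases hE0 with f' | f' <;>
        first
          | exact e.trans f.symm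
          | exact absurd (f.trans f'.symm) hθE
          | exact absurd (hθ1.2) (by rw [show E = twist θ hk from f'.trans e.symm]; exact hin L₁)
    exact congrFun (congrArg Subtype.val heq) g
  · omega
  · rcases hsval with e | e <;> rcases hEs with e' | e' <;> rw [e, e'] at hrel <;> omega
  · rcases hsval with e | e <;> rcases hEs with e' | e' <;> rw [e, e'] at hrel <;> omega

end Cfsg.Agent.Spor.NineQ
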