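import Cfsg.Agent.Lib.Spor.NineQ.Common

/-!
Two axes and one class of four: two pairs of consecutive degrees of rational characters, none
divisible by three.
-/

open scoped ComplexConjugate

namespace Cfsg.Agent.Spor.NineQ

open Cfsg Cfsg.Agent.Block Cfsg.Agent.Char Cfsg.Agent.Char.Star Cfsg.Agent.Char.SecInner

set_option linter.unusedSectionVars false
set_option linter.style.haveILetI false

universe u

variable {G : Type u} [Group G] [Fintype G] [IsSimpleGroup G] [Fact (Nat.Prime 3)]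
variable {T : Sylow 3 G} {a b : G}

theorem Klein.swap (h : Klein T a b) (hcard : Nat.card (T : Subgroup G) = 9) : Klein T b a := by
  have hab := abelian_nine T hcard
  have e : b * a = a * b := (comm_of_abelian T hab h.memB h.memA).eq
  exact
    { memA := h.memB, memB := h.memA, cubeA := h.cubeB, cubeB := h.cubeA, neA := h.neB, neB := h.neA
      clsA := h.clsB, clsB := h.clsA, apart := fun x => h.apart x.symm
      apartA := e ▸ h.apartB, apartB := e ▸ h.apartA, four := e ▸ h.four
      cover := fun v hv => by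
        rw [e]
        rcases h.cover v hv with x | x | x | x
        · exact Or.inl x
        · exact Or.inr (Or.inr (Or.inl x))
        · exact Or.inr (Or.inl x)
        · exact Or.inr (Or.inr (Or.inr x)) }

theorem mem_zpowers_three {c : G} (hc : c ^ 3 = 1) {v : G} :
    v ∈ Subgroup.zpowers c ↔ v = 1 ∨ v = c ∨ v = c⁻¹ := by
  constructor
  · intro hv
    obtain ⟨i, rfl⟩ := Subgroup.mem_zpowers_iff.1 hv
    have h3 : c ^ (3 : ℤ) = 1 := by exact_mod_cast hc
    rw [← Int.mul_ediv_add_emod i 3, zpow_add, zpow_mul, h3, one_zpow, one_mul]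
    have h0 := Int.emod_nonneg i (show (3 : ℤ) ≠ 0 by norm_num)
    have h1 := Int.emod_lt_of_pos i (show (0 : ℤ) < 3 by norm_num)
    interval_cases hh : i % 3
    · exact Or.inl (zpow_zero c)
    · exact Or.inr (Or.inl (zpow_one c))
    · refine Or.inr (Or.inr (eq_inv_of_mul_eq_one_left ?_))
      rw [← zpow_add_one]
      exact h3
  · rintro (rfl | rfl | rfl)
    · exact one_mem _
    · exact Subgroup.mem_zpowers _
    · exact inv_mem (Subgroup.mem_zpowers _)

theorem Klein.mem_zb (h : Klein T a b) {v : G} :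
    v ∈ Subgroup.zpowers b ↔ v = 1 ∨ v = b ∨ v = b⁻¹ :=
  mem_zpowers_three h.cubeB

theorem Klein.prod_ne_one (h : Klein T a b) : a * b ≠ 1 := fun e => by
  have hb : b = a⁻¹ := eq_inv_of_mul_eq_one_right e
  exact h.apart (hb ▸ (mem_cls.1 ((h.clsA a⁻¹).2 (Or.inr rfl))).2)

theorem Klein.not_mem_zb (h : Klein T a b) : a ∉ Subgroup.zpowers b ∧ a * b ∉ Subgroup.zpowers b := by
  constructor <;> rw [h.mem_zb] <;> rintro (e | e | e)
  · exact h.neA e
  · exact h.apart (e ▸ IsConj.refl _)
  · exact h.apart (e ▸ (mem_cls.1 ((h.clsB b⁻¹).2 (Or.inr rfl))).2.symm)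
  · exact h.prod_ne_one e
  · exact h.neA (mul_right_cancel (e.trans (one_mul b).symm))
  · exact h.apartB (e ▸ (mem_cls.1 ((h.clsB b⁻¹).2 (Or.inr rfl))).2)

theorem Klein.closure_eq (h : Klein T a b) (hcard : Nat.card (T : Subgroup G) = 9) :
    Subgroup.closure ({a, b} : Set G) = (T : Subgroup G) := by
  have hle : Subgroup.closure ({a, b} : Set G) ≤ (T : Subgroup G) :=
    (Subgroup.closure_le _).2 (by
      rintro x (rfl | rfl)
      · exact h.memA
      · exact h.memB)
  refine Subgroup.eq_of_le_of_card_ge hle ?_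
  have hdvd := Subgroup.card_dvd_of_le hle
  rw [hcard] at hdvd ⊢
  set H := Subgroup.closure ({a, b} : Set G)
  have hbH : Subgroup.zpowers b ≤ H := Subgroup.zpowers_le.2 (Subgroup.subset_closure (by simp))
  have hlt : Nat.card (Subgroup.zpowers b) < Nat.card H := by
    refine lt_of_le_of_ne (Subgroup.card_le_of_le hbH) fun e => h.not_mem_zb.1 ?_
    rw [Subgroup.eq_of_le_of_card_ge hbH e.ge]
    exact Subgroup.subset_closure (by simp)
  rw [Nat.card_zpowers, orderOf_eq_prime h.cubeB h.neB] at hlt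
  obtain ⟨i, hi, hH⟩ := (Nat.dvd_prime_pow Nat.prime_three).1
    (show Nat.card H ∣ 3 ^ 2 by norm_num; exact hdvd)
  interval_cases i <;> omega

theorem Klein.agree (h : Klein T a b) (hcard : Nat.card (T : Subgroup G) = 9) {n m : G}
    (ha : n * a * n⁻¹ = m * a * m⁻¹) (hb : n * b * n⁻¹ = m * b * m⁻¹) {x : G}
    (hx : x ∈ (T : Subgroup G)) : n * x * n⁻¹ = m * x * m⁻¹ := by
  rw [← h.closure_eq hcard] at hx
  exact MonoidHom.eqOn_closure (f := (MulAut.conj n).toMonoidHom) (g := (MulAut.conj m).toMonoidHom)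
    (by rintro y (rfl | rfl) <;> assumption) hx

theorem Klein.image_a (h : Klein T a b) {n : G} (hn : n ∈ Subgroup.normalizer (T : Set G)) :
    n * a * n⁻¹ = a ∨ n * a * n⁻¹ = a⁻¹ :=
  (h.clsA _).1 (mem_cls.2 ⟨(Subgroup.mem_normalizer_iff.1 hn a).1 h.memA, isConj_iff.2 ⟨n, rfl⟩⟩)

theorem Klein.image_b (h : Klein T a b) {n : G} (hn : n ∈ Subgroup.normalizer (T : Set G)) :
    n * b * n⁻¹ = b ∨ n * b * n⁻¹ = b⁻¹ :=
  (h.clsB _).1 (mem_cls.2 ⟨(Subgroup.mem_normalizer_iff.1 hn b).1 h.memB, isConj_iff.2 ⟨n, rfl⟩⟩)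

theorem Klein.complement_ab (h : Klein T a b) (hcard : Nat.card (T : Subgroup G) = 9) :
    Cfsg.HasNormalPComplement 3 (Subgroup.centralizer ({a * b} : Set G)) := by
  refine complement_of_fixed T (abelian_nine T hcard) (mul_mem h.memA h.memB)
    fun n hn hfix x hx => ?_
  have hprod : (n * a * n⁻¹) * (n * b * n⁻¹) = a * b := by
    rw [← hfix]; group
  have h2 : ∀ {v : G}, v ∈ (T : Subgroup G) → v ≠ 1 → v ≠ v⁻¹ := pow_two_ne_one T hcard
  have hab := abelian_nine T hcard
  have key : n * a * n⁻¹ = 1 * a * 1⁻¹ ∧ n * b * n⁻¹ = 1 * b * 1⁻¹ := by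
    simp only [one_mul, inv_one, mul_one]
    rcases h.image_a hn with e | e <;> rcases h.image_b hn with f | f <;> rw [e, f] at hprod
    · exact ⟨e, f⟩
    · exact absurd (mul_left_cancel hprod).symm (h2 h.memB h.neB)
    · exact absurd (mul_right_cancel hprod).symm (h2 h.memA h.neA)
    · rw [(comm_of_abelian T hab (inv_mem h.memA) (inv_mem h.memB)).eq, ← mul_inv_rev] at hprod
      exact absurd hprod.symm (h2 (mul_mem h.memA h.memB) h.prod_ne_one)
  simpa using h.agree hcard key.1 key.2 hx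

theorem Klein.exists_flip (h : Klein T a b) (hcard : Nat.card (T : Subgroup G) = 9) :
    ∃ n ∈ Subgroup.normalizer (T : Set G), n * a * n⁻¹ = a ∧ n * b * n⁻¹ = b⁻¹ := by
  have hab := abelian_nine T hcard
  have hmem : a * b⁻¹ ∈ (T : Subgroup G) := mul_mem h.memA (inv_mem h.memB)
  have h2 : ∀ {v : G}, v ∈ (T : Subgroup G) → v ≠ 1 → v ≠ v⁻¹ := pow_two_ne_one T hcard
  have hconj : IsConj (a * b) (a * b⁻¹) := by
    rcases h.cover _ hmem with e | e | e | e
    · exact absurd (mul_inv_eq_one.1 e) fun e' => h.apart (e' ▸ IsConj.refl _)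
    · exfalso
      rcases (h.clsA _).1 (mem_cls.2 ⟨hmem, e⟩) with e' | e'
      · exact h.neB (inv_eq_one.1 (mul_left_cancel (e'.trans (mul_one a).symm)))
      · have : b⁻¹ = a := calc
          b⁻¹ = a⁻¹ * (a * b⁻¹) := by group
          _ = (a ^ 3)⁻¹ * a := by rw [e']; group
          _ = a := by rw [h.cubeA, inv_one, one_mul]
        exact h.apart (this ▸ (mem_cls.1 ((h.clsB b⁻¹).2 (Or.inr rfl))).2.symm)
    · exfalso
      rcases (h.clsB _).1 (mem_cls.2 ⟨hmem, e⟩) with e' | e'
      · have : a = b⁻¹ := calc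
          a = (a * b⁻¹) * b := by group
          _ = b * b := by rw [e']
          _ = b⁻¹ := eq_inv_of_mul_eq_one_left (by rw [← pow_two, ← pow_succ]; exact h.cubeB)
        exact h.apart (this ▸ (mem_cls.1 ((h.clsB b⁻¹).2 (Or.inr rfl))).2.symm)
      · exact h.neA (mul_right_cancel (e'.trans (one_mul b⁻¹).symm))
    · exact e
  obtain ⟨n, hn, hn'⟩ := fusion T hab (mul_mem h.memA h.memB) hmem hconj
  have hprod : (n * a * n⁻¹) * (n * b * n⁻¹) = a * b⁻¹ := by rw [← hn']; group
  refine ⟨n, hn, ?_⟩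
  rcases h.image_a hn with e | e <;> rcases h.image_b hn with f | f <;> rw [e, f] at hprod
  · exact absurd (mul_left_cancel hprod) (h2 h.memB h.neB)
  · exact ⟨e, f⟩
  · exfalso
    rw [(comm_of_abelian T hab (inv_mem h.memA) h.memB).eq] at hprod
    have : b * a⁻¹ ≠ (b * a⁻¹)⁻¹ := h2 (mul_mem h.memB (inv_mem h.memA))
      fun e' => h.apart (mul_inv_eq_one.1 e' ▸ IsConj.refl _)
    rw [mul_inv_rev, inv_inv] at this
    exact this hprod
  · exact absurd (mul_right_cancel hprod).symm (h2 h.memA h.neA)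

/-- The weight of the section of an axis. -/
theorem Klein.weight (h : Klein T a b) (hcard : Nat.card (T : Subgroup G) = 9) {M : Ideal AlgInt}
    (hM : IsPModular 3 M) :
    SecInner.T 3 a (fun _ : G => (1 : ℂ)) (fun _ => 1) = 2 / 9 := by
  classical
  have hab := abelian_nine T hcard
  set C := Subgroup.centralizer ({a} : Set G) with hC
  cases nonempty_fintype C
  have hle : (T : Subgroup G) ≤ C := fun x hx =>
    Subgroup.mem_centralizer_singleton_iff.2 (comm_of_abelian T hab hx h.memA).eq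
  set RC : Sylow 3 C := T.subtype hle with hRC
  have hmem : ∀ v : C, v ∈ (RC : Subgroup C) ↔ (v : G) ∈ (T : Subgroup G) := fun v => by
    rw [hRC, Sylow.coe_subtype, Subgroup.mem_subgroupOf]
  have hRCab : IsMulCommutative (RC : Subgroup C) :=
    ⟨⟨fun x y => Subtype.ext (Subtype.ext (comm_of_abelian T hab ((hmem _).1 x.2) ((hmem _).1 y.2)).eq)⟩⟩
  have hRCcard : Nat.card (RC : Subgroup C) = 9 := by
    rw [hRC, Sylow.coe_subtype, Nat.card_congr (Subgroup.subgroupOfEquivOfLe hle).toEquiv, hcard]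
  obtain ⟨n, hn, hna, hnb⟩ := h.exists_flip hcard
  have hnC : n ∈ C := Subgroup.mem_centralizer_singleton_iff.2 (mul_inv_eq_iff_eq_mul.1 hna)
  -- elements of the normalizer fixing `a`
  have htwo : ∀ m ∈ Subgroup.normalizer (T : Set G), m * a * m⁻¹ = a →
      ∀ x ∈ (T : Subgroup G), m * x * m⁻¹ = x ∨ m * x * m⁻¹ = n * x * n⁻¹ := by
    intro m hm hma x hx
    rcases h.image_b hm with f | f
    · refine Or.inl ?_
      simpa using h.agree hcard (n := m) (m := 1) (by simpa using hma) (by simpa using f) hx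
    · exact Or.inr (h.agree hcard (hma.trans hna.symm) (f.trans hnb.symm) hx)
  have hfixed : ∀ x ∈ (T : Subgroup G), n * x * n⁻¹ = x ↔ x ∈ Subgroup.zpowers a := by
    intro x hx
    constructor
    · intro hfx
      set F := Subgroup.centralizer ({n} : Set G) ⊓ (T : Subgroup G) with hF
      have hzF : Subgroup.zpowers a ≤ F := Subgroup.zpowers_le.2
        ⟨Subgroup.mem_centralizer_singleton_iff.2 (mul_inv_eq_iff_eq_mul.1 hna).symm, h.memA⟩
      have hxF : x ∈ F :=
        ⟨Subgroup.mem_centralizer_singleton_iff.2 (mul_inv_eq_iff_eq_mul.1 hfx).symm, hx⟩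
      suffices F = Subgroup.zpowers a from this ▸ hxF
      refine (Subgroup.eq_of_le_of_card_ge hzF ?_).symm
      have hFT : F ≠ (T : Subgroup G) := fun e => by
        have hbF : b ∈ F := e ▸ h.memB
        have := Subgroup.mem_centralizer_singleton_iff.1 hbF.1
        refine pow_two_ne_one T hcard h.memB h.neB ?_
        calc b = n * b * n⁻¹ := by rw [← this, mul_inv_cancel_right]
          _ = b⁻¹ := hnb
      have hdvd := Subgroup.card_dvd_of_le (inf_le_right : F ≤ (T : Subgroup G))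
      rw [Nat.card_zpowers, orderOf_eq_prime h.cubeA h.neA]
      rw [hcard] at hdvd
      obtain ⟨i, hi, hFc⟩ := (Nat.dvd_prime_pow Nat.prime_three).1
        (show Nat.card F ∣ 3 ^ 2 from hdvd)
      interval_cases i
      · omega
      · omega
      · exact absurd (Subgroup.eq_of_le_of_card_ge inf_le_right (by rw [hcard, hFc]; norm_num)) hFT
    · intro hxa
      obtain ⟨i, rfl⟩ := Subgroup.mem_zpowers_iff.1 hxa
      rw [← conj_zpow, hna]
  -- classes inside the centralizer
  have hclsC : ∀ v : C, v ∈ (RC : Subgroup C) → cls RC v =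
      {v, (⟨n, hnC⟩ : C) * v * (⟨n, hnC⟩ : C)⁻¹} := by
    intro v hv
    ext w
    simp only [mem_cls, Finset.mem_insert, Finset.mem_singleton]
    constructor
    · rintro ⟨hw, hc⟩
      obtain ⟨g, hg⟩ := isConj_iff.1 hc
      obtain ⟨m, hm, hma, hmv⟩ := fusion_pair T hab h.memA ((hmem v).1 hv) ((hmem w).1 hw)
        (g := (g : G)) (Subgroup.mem_centralizer_singleton_iff.1 g.2) (by rw [← hg]; rfl)
      rcases htwo m hm hma _ ((hmem v).1 hv) with e | e
      · exact Or.inl (Subtype.ext (hmv.symm.trans e))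
      · exact Or.inr (Subtype.ext (hmv.symm.trans e))
    · rintro (rfl | rfl)
      · exact ⟨hv, IsConj.refl _⟩
      · exact ⟨(hmem _).2 ((Subgroup.mem_normalizer_iff.1 hn _).1 ((hmem v).1 hv)),
          isConj_iff.2 ⟨⟨n, hnC⟩, rfl⟩⟩
  have hcentral : ∀ v : C, v ∈ (RC : Subgroup C) → (v : G) ∈ Subgroup.zpowers a →
      SecInner.T 3 v (fun _ : C => (1 : ℂ)) (fun _ => 1) / (cnum RC v : ℂ) =
        SecInner.T 3 a (fun _ : G => (1 : ℂ)) (fun _ => 1) := by
    intro v hv hva
    have hfix : (⟨n, hnC⟩ : C) * v * (⟨n, hnC⟩ : C)⁻¹ = v :=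
      Subtype.ext ((hfixed v ((hmem v).1 hv)).2 hva)
    rw [cnum_eq_cls, hclsC v hv, hfix, Finset.pair_eq_singleton, Finset.card_singleton,
      Nat.cast_one, div_one]
    obtain ⟨k, hk⟩ := IsPGroup.iff_orderOf.1 RC.isPGroup' ⟨v, hv⟩
    rw [Subgroup.orderOf_mk] at hk
    obtain ⟨k', hk'⟩ : ∃ k', orderOf a = 3 ^ k' := ⟨1, orderOf_eq_prime h.cubeA h.neA⟩
    cases nonempty_fintype (Subgroup.centralizer ({v} : Set C))
    have htop : Subgroup.centralizer ({v} : Set C) = ⊤ := by
      rw [Subgroup.eq_top_iff']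
      intro c
      rw [Subgroup.mem_centralizer_singleton_iff]
      obtain ⟨i, hi⟩ := Subgroup.mem_zpowers_iff.1 hva
      exact Subtype.ext (show (c : G) * (v : G) = (v : G) * (c : G) by
        rw [← hi]
        exact ((show Commute (c : G) a from Subgroup.mem_centralizer_singleton_iff.1 c.2).zpow_right i).eq)
    rw [T_eq_cent ⟨k, hk⟩ (fun _ _ => rfl) (fun _ _ => rfl),
      T_eq_cent ⟨k', hk'⟩ (fun _ _ => rfl) (fun _ _ => rfl)]
    let e : Subgroup.centralizer ({v} : Set C) ≃* C :=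
      (MulEquiv.subgroupCongr htop).trans Subgroup.topEquiv
    rw [Nat.card_congr e.toEquiv]
    congr 1
    refine Finset.sum_equiv e.toEquiv (fun c => ?_) (fun c _ => rfl)
    simp only [Finset.mem_filter, Finset.mem_univ, true_and, MulEquiv.toEquiv_eq_coe,
      EquivLike.coe_coe, MulEquiv.orderOf_eq]
  have hother : ∀ v : C, v ∈ (RC : Subgroup C) → (v : G) ∉ Subgroup.zpowers a →
      SecInner.T 3 v (fun _ : C => (1 : ℂ)) (fun _ => 1) / (cnum RC v : ℂ) = 1 / 18 := by
    intro v hv hva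
    have hne : (⟨n, hnC⟩ : C) * v * (⟨n, hnC⟩ : C)⁻¹ ≠ v := fun e =>
      hva ((hfixed v ((hmem v).1 hv)).1 (congrArg Subtype.val e))
    have hcomp : Cfsg.HasNormalPComplement 3 (Subgroup.centralizer ({v} : Set C)) := by
      refine complement_of_fixed RC hRCab hv fun m hm hmv x hx => ?_
      have hmN : (m : G) ∈ Subgroup.normalizer (T : Set G) := by
        rw [Subgroup.mem_set_normalizer_iff]
        intro y
        constructor
        · intro hy
          exact (hmem _).1 ((Subgroup.mem_normalizer_iff.1 hm ⟨y, hle hy⟩).1 ((hmem _).2 hy))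
        · intro hy
          have hy' : y ∈ C := by
            have := mul_mem (mul_mem (inv_mem m.2) (hle hy)) m.2
            simpa [mul_assoc] using this
          exact (hmem _).1 ((Subgroup.mem_normalizer_iff.1 hm ⟨y, hy'⟩).2 ((hmem _).2 hy))
      have hma : (m : G) * a * (m : G)⁻¹ = a := by
        rw [Subgroup.mem_centralizer_singleton_iff.1 m.2, mul_inv_cancel_right]
      have hnotflip : ¬ (m : G) * (v : G) * (m : G)⁻¹ = n * (v : G) * n⁻¹ := fun e =>
        hne (Subtype.ext (e.symm.trans (congrArg Subtype.val hmv)))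
      have hmb : (m : G) * b * (m : G)⁻¹ = b := (h.image_b hmN).resolve_right fun f =>
        hnotflip (h.agree hcard (hma.trans hna.symm) (f.trans hnb.symm) ((hmem v).1 hv))
      refine Subtype.ext ?_
      simpa using h.agree hcard (n := (m : G)) (m := 1) (by simpa using hma) (by simpa using hmb)
        ((hmem x).1 hx)
    rw [T_one_rank_one hM RC hv hRCab hcomp, hRCcard, cnum_eq_cls, hclsC v hv,
      Finset.card_pair hne.symm]
    norm_num
  have hsum := sum_T RC (fun _ : C => (1 : ℂ)) (fun _ => 1)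
  rw [show classInner (fun _ : C => (1 : ℂ)) (fun _ => 1) = 1 from classInner_self_irr isIrr_one,
    ← Finset.sum_filter_add_sum_filter_not _ (fun v : C => (v : G) ∈ Subgroup.zpowers a),
    Finset.sum_congr rfl (fun v hv => hcentral v
      (Finset.mem_filter.1 (Finset.mem_filter.1 hv).1).2 (Finset.mem_filter.1 hv).2),
    Finset.sum_congr rfl (fun v hv => hother v
      (Finset.mem_filter.1 (Finset.mem_filter.1 hv).1).2 (Finset.mem_filter.1 hv).2),
    Finset.sum_const, Finset.sum_const] at hsum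
  have hcA : ((Finset.univ.filter fun v : C => v ∈ (RC : Subgroup C)).filter
      fun v : C => (v : G) ∈ Subgroup.zpowers a).card = 3 := by
    refine Eq.trans ?_ (orderOf_eq_prime (p := 3) h.cubeA h.neA)
    rw [← Nat.card_zpowers, Nat.card_eq_fintype_card, ← Finset.card_univ]
    refine Finset.card_bij' (fun v hv => ⟨(v : G), (Finset.mem_filter.1 hv).2⟩)
      (fun x _ => ⟨(x : G), hle ((Subgroup.zpowers_le.2 h.memA) x.2)⟩)
      (fun v _ => Finset.mem_univ _) (fun x _ => ?_) (fun v _ => rfl) (fun x _ => rfl)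
    simp only [Finset.mem_filter, Finset.mem_univ, true_and]
    exact ⟨(hmem _).2 ((Subgroup.zpowers_le.2 h.memA) x.2), x.2⟩
  have hcR : (Finset.univ.filter fun v : C => v ∈ (RC : Subgroup C)).card = 9 := by
    rw [← hRCcard, Nat.card_eq_fintype_card, ← Fintype.card_subtype]
  have hcB : ((Finset.univ.filter fun v : C => v ∈ (RC : Subgroup C)).filter
      fun v : C => ¬ (v : G) ∈ Subgroup.zpowers a).card = 6 := by
    have := Finset.card_filter_add_card_filter_not (fun v : C => (v : G) ∈ Subgroup.zpowers a)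
      (s := Finset.univ.filter fun v : C => v ∈ (RC : Subgroup C))
    omega
  rw [hcA, hcB, nsmul_eq_mul, nsmul_eq_mul] at hsum
  push_cast at hsum
  linear_combination hsum / 3

/-- A sum over the Sylow subgroup of a stable function. -/
theorem Klein.sum_eq (h : Klein T a b) (hcard : Nat.card (T : Subgroup G) = 9) {F : G → ℂ}
    (hF : Stable T F) [DecidablePred fun v : G => v ∈ (T : Subgroup G)] :
    ∑ v ∈ Finset.univ.filter (fun v : G => v ∈ (T : Subgroup G)), F v =
      F 1 + 2 * F a + 2 * F b + 4 * F (a * b) := by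
  classical
  have hpart : Finset.univ.filter (fun v : G => v ∈ (T : Subgroup G)) =
      cls T 1 ∪ cls T a ∪ cls T b ∪ cls T (a * b) := by
    ext v
    simp only [Finset.mem_filter, Finset.mem_univ, true_and, Finset.mem_union, mem_cls]
    refine ⟨fun hv => ?_, ?_⟩
    · rcases h.cover v hv with rfl | e | e | e
      · exact Or.inl (Or.inl (Or.inl ⟨hv, IsConj.refl _⟩))
      · exact Or.inl (Or.inl (Or.inr ⟨hv, e⟩))
      · exact Or.inl (Or.inr ⟨hv, e⟩)
      · exact Or.inr ⟨hv, e⟩
    · rintro (((e | e) | e) | e) <;> exact e.1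
  have hdisj : ∀ u v : G, ¬ IsConj u v → Disjoint (cls T u) (cls T v) := fun u v huv =>
    Finset.disjoint_left.2 fun w hu hv => huv ((mem_cls.1 hu).2.trans (mem_cls.1 hv).2.symm)
  have h1 : ∀ x : G, x ≠ 1 → ¬ IsConj (1 : G) x := fun x hx e => hx (isConj_one_right.1 e)
  have hconst : ∀ x, x ∈ (T : Subgroup G) →
      ∑ v ∈ cls T x, F v = ((cls T x).card : ℂ) * F x := fun x hx => by
    rw [Finset.sum_congr rfl fun v hv =>
      (hF x hx v (mem_cls.1 hv).1 (mem_cls.1 hv).2).symm, Finset.sum_const, nsmul_eq_mul]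
  have hca : ∀ c : G, c ∈ (T : Subgroup G) → c ≠ 1 → (∀ w, w ∈ cls T c ↔ w = c ∨ w = c⁻¹) →
      (cls T c).card = 2 := fun c hc hc1 hC => by
    rw [show cls T c = {c, c⁻¹} from Finset.ext fun w => by simp [hC],
      Finset.card_pair (pow_two_ne_one T hcard hc hc1)]
  rw [hpart, Finset.sum_union, Finset.sum_union, Finset.sum_union, hconst 1 (one_mem _),
    hconst a h.memA, hconst b h.memB, hconst _ (mul_mem h.memA h.memB), cls_one,
    Finset.card_singleton, hca a h.memA h.neA h.clsA, hca b h.memB h.neB h.clsB, h.four]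
  · norm_num
  · exact hdisj _ _ (h1 a h.neA)
  · exact Finset.disjoint_union_left.2 ⟨hdisj _ _ (h1 b h.neB), hdisj _ _ h.apart⟩
  · exact Finset.disjoint_union_left.2 ⟨Finset.disjoint_union_left.2
      ⟨hdisj _ _ (h1 _ h.prod_ne_one), hdisj _ _ h.apartA⟩, hdisj _ _ h.apartB⟩

/-- Three off the axis of `b`, zero on it. -/
noncomputable def axisFun (T : Sylow 3 G) (b : G) (v : G) : ℂ := by
  classical
  exact if v ∈ (T : Subgroup G) ∧ v ∉ Subgroup.zpowers b then 3 else 0

theorem Klein.axis_stable (h : Klein T a b) : Stable T (axisFun T b) := by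
  have key : ∀ u v, v ∈ (T : Subgroup G) → IsConj u v → u ∈ Subgroup.zpowers b →
      v ∈ Subgroup.zpowers b := by
    intro u v hv huv hu
    rcases h.mem_zb.1 hu with rfl | rfl | rfl
    · rw [isConj_one_right.1 huv]; exact one_mem _
    · exact h.mem_zb.2 (Or.inr ((h.clsB v).1 (mem_cls.2 ⟨hv, huv⟩)))
    · exact h.mem_zb.2 (Or.inr ((h.clsB v).1
        (mem_cls.2 ⟨hv, (mem_cls.1 ((h.clsB b⁻¹).2 (Or.inr rfl))).2.trans huv⟩)))
  intro u hu v hv huv
  simp only [axisFun, hu, hv, true_and]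
  by_cases hb : u ∈ Subgroup.zpowers b
  · rw [if_neg (not_not.2 hb), if_neg (not_not.2 (key u v hv huv hb))]
  · rw [if_pos hb, if_pos fun hb' => hb (key v u hu huv.symm hb')]

theorem Klein.axis_values (h : Klein T a b) : axisFun T b 1 = 0 ∧ axisFun T b a = 3 ∧
    axisFun T b b = 0 ∧ axisFun T b (a * b) = 3 := by
  refine ⟨?_, ?_, ?_, ?_⟩ <;> simp only [axisFun]
  · rw [if_neg fun e => e.2 (one_mem _)]
  · rw [if_pos ⟨h.memA, h.not_mem_zb.1⟩]
  · rw [if_neg fun e => e.2 (Subgroup.mem_zpowers b)]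
  · rw [if_pos ⟨mul_mem h.memA h.memB, h.not_mem_zb.2⟩]

theorem Klein.axis_genChar_res (h : Klein T a b) (hcard : Nat.card (T : Subgroup G) = 9) :
    IsGeneralizedCharacter (T : Subgroup G) (fun v => axisFun T b (v : G)) := by
  classical
  letI := Fintype.ofFinite (T : Subgroup G)
  set H := (Subgroup.zpowers b).subgroupOf (T : Subgroup G) with hH
  letI := Fintype.ofFinite H
  have hHc : Nat.card H = 3 := by
    rw [hH, Nat.card_congr (Subgroup.subgroupOfEquivOfLe (Subgroup.zpowers_le.2 h.memB)).toEquiv,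
      Nat.card_zpowers, orderOf_eq_prime h.cubeB h.neB]
  have hind := IsGenChar.ind H (α := fun _ : H => (1 : ℂ)) (IsGenChar.of_isCharacter IsChar.one)
  have h1 : IsGeneralizedCharacter (T : Subgroup G) (fun _ => (1 : ℂ)) :=
    IsGenChar.of_isCharacter IsChar.one
  have hf := IsGenChar.sub (IsGenChar.add (IsGenChar.add h1 h1) h1) hind
  convert hf using 1
  funext u
  simp only [Pi.sub_apply, Pi.add_apply, indFun]
  rw [Finset.sum_congr rfl fun x _ => show extendByZero H (fun _ : H => (1 : ℂ)) (x⁻¹ * u * x) =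
      if (u : G) ∈ Subgroup.zpowers b then 1 else 0 from ?_]
  · rw [Finset.sum_const, Finset.card_univ, ← Nat.card_eq_fintype_card, hcard, hHc, nsmul_eq_mul]
    simp only [axisFun, u.2, true_and]
    split_ifs <;> norm_num
  · have e : x⁻¹ * u * x = u := Subtype.ext (by
      show (x : G)⁻¹ * (u : G) * (x : G) = (u : G)
      rw [mul_assoc, (comm_of_abelian T (abelian_nine T hcard) u.2 x.2).eq, inv_mul_cancel_left])
    rw [e]
    by_cases hu : (u : G) ∈ Subgroup.zpowers b
    · rw [if_pos hu, extendByZero_of_mem _ (Subgroup.mem_subgroupOf.2 hu)]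
    · rw [if_neg hu, extendByZero]
      exact Function.extend_apply' _ _ _ fun ⟨y, hy⟩ =>
        hu (Subgroup.mem_subgroupOf.1 (hy ▸ y.2))

/-- Inner products of lifted stable functions vanishing at one. -/
theorem Klein.inner_eq (h : Klein T a b) (hcard : Nat.card (T : Subgroup G) = 9) {M : Ideal AlgInt}
    (hM : IsPModular 3 M) {ψ ψ' : G → ℂ} (hψ : Stable T ψ) (hψ' : Stable T ψ') (hψ1 : ψ 1 = 0) :
    classInner (lift T ψ) (lift T ψ') = (2 * (ψ a * conj (ψ' a)) + 2 * (ψ b * conj (ψ' b)) +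
      ψ (a * b) * conj (ψ' (a * b))) / 9 := by
  classical
  have hab := abelian_nine T hcard
  rw [inner_lift_lift hψ hψ', h.sum_eq hcard (F := fun v => ψ v * conj (ψ' v) *
      SecInner.T 3 v (fun _ => 1) (fun _ => 1) / (cnum T v : ℂ)) fun u hu v hv huv => by
    dsimp only
    rw [hψ u hu v hv huv, hψ' u hu v hv huv, T_congr huv, cnum_eq_cls, cnum_eq_cls, cls_congr huv]]
  have hw2 : ∀ c : G, c ∈ (T : Subgroup G) → c ≠ 1 → (∀ w, w ∈ cls T c ↔ w = c ∨ w = c⁻¹) →
      cnum T c = 2 := fun c hc hc1 hC => by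
    rw [cnum_eq_cls, show cls T c = {c, c⁻¹} from Finset.ext fun w => by simp [hC],
      Finset.card_pair (pow_two_ne_one T hcard hc hc1)]
  rw [h.weight hcard hM, (h.swap hcard).weight hcard hM,
    T_one_rank_one hM T (mul_mem h.memA h.memB) hab (h.complement_ab hcard),
    hw2 a h.memA h.neA h.clsA, hw2 b h.memB h.neB h.clsB, cnum_eq_cls T (a * b), h.four, hcard,
    hψ1]
  push_cast
  ring

/-- The pairing with the product function is the value on the class of four. -/
theorem Klein.inner_prod (h : Klein T a b) (hcard : Nat.card (T : Subgroup G) = 9) {M : Ideal AlgInt}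
    (hM : IsPModular 3 M) {ψ : G → ℂ} (hψ : Stable T ψ) (h1 : ψ 1 = 0) (ha : ψ a = 0)
    (hb : ψ b = 0) (hd : ψ (a * b) = 9) (χ : IrrCharacter G) (hχ : χ ∈ principalBlock M G) :
    classInner (lift T ψ) (χ : G → ℂ) = conj ((χ : G → ℂ) (a * b)) := by
  classical
  have hab := abelian_nine T hcard
  rw [inner_lift hψ, h.sum_eq hcard (F := fun v => ψ v * SecInner.T 3 v (fun _ => 1) (χ : G → ℂ) /
      (cnum T v : ℂ)) fun u hu v hv huv => by
    dsimp only
    rw [hψ u hu v hv huv, T_congr huv, cnum_eq_cls, cnum_eq_cls, cls_congr huv],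
    T_one_left hM T (mul_mem h.memA h.memB) hab (h.complement_ab hcard) χ hχ,
    cnum_eq_cls T (a * b), h.four, hcard, h1, ha, hb, hd]
  push_cast
  ring

theorem val_mod_three (χ : IrrCharacter G) {d : G} (hd : d ^ 3 = 1) (hd1 : d ≠ 1) {m : ℤ}
    (hm : (χ : G → ℂ) d = m) : (3 : ℤ) ∣ (charDegree (χ : G → ℂ) : ℤ) + 2 * m := by
  classical
  letI := Fintype.ofFinite (Subgroup.zpowers d)
  obtain ⟨n, hn⟩ := IsChar.classInner_nat
    (IsChar.res (IsIrr.isCharacter χ.2) (Subgroup.zpowers d))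
    (IsChar.one (G := Subgroup.zpowers d))
  simp only [classInner, map_one, mul_one, Nat.card_zpowers, orderOf_eq_prime hd hd1] at hn
  have hinv : (χ : G → ℂ) d⁻¹ = m := by
    rw [IsIrr.apply_inv χ.2, hm, map_intCast]
  have hd2 : d ≠ d⁻¹ := fun e => hd1 (by
    calc d = (d ^ 3) * (d * d)⁻¹ := by group
      _ = 1 := by rw [hd, mul_eq_one_iff_eq_inv.2 e, inv_one, one_mul])
  have himg : (Finset.univ : Finset (Subgroup.zpowers d)).map (Function.Embedding.subtype _) =
      {1, d, d⁻¹} := by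
    ext v
    simp only [Finset.mem_map, Finset.mem_univ, true_and, Function.Embedding.coe_subtype,
      Finset.mem_insert, Finset.mem_singleton, ← mem_zpowers_three hd]
    exact ⟨fun ⟨x, hx⟩ => hx ▸ x.2, fun hv => ⟨⟨v, hv⟩, rfl⟩⟩
  have hsum : ∑ x : Subgroup.zpowers d, (χ : G → ℂ) x =
      (charDegree (χ : G → ℂ) : ℂ) + 2 * m := by
    rw [show ∑ x : Subgroup.zpowers d, (χ : G → ℂ) x = ∑ v ∈
      (Finset.univ : Finset (Subgroup.zpowers d)).map (Function.Embedding.subtype _),
        (χ : G → ℂ) v by rw [Finset.sum_map]; rfl, himg,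
      Finset.sum_insert (by simp [hd1.symm, eq_comm, hd1]), Finset.sum_pair hd2, charDeg_spec', hm,
      hinv]
    ring
  rw [hsum] at hn
  refine ⟨n, ?_⟩
  have h3 : ((((charDegree (χ : G → ℂ) : ℤ) + 2 * m : ℤ)) : ℂ) = ((3 * (n : ℤ) : ℤ) : ℂ) := by
    push_cast at hn ⊢
    linear_combination 3 * hn
  exact_mod_cast h3

/-- The conclusion. -/
theorem of_klein (h : Klein T a b) (hcard : Nat.card (T : Subgroup G) = 9) :
    ∃ θ E : IrrCharacter G, θ ≠ trivialIrr G ∧ E ≠ trivialIrr G ∧
      (∀ k : ℕ, k.Coprime (Nat.card G) → ∀ g, (θ : G → ℂ) (g ^ k) = (θ : G → ℂ) g) ∧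
      ¬ 3 ∣ charDegree (θ : G → ℂ) ∧ ¬ 3 ∣ charDegree (E : G → ℂ) ∧
      charDegree (θ : G → ℂ) + 1 = charDegree (E : G → ℂ) := by
  classical
  obtain ⟨M, hM⟩ := exists_isPModular 3 Nat.prime_three
  have hab := abelian_nine T hcard
  have hba : b * a = a * b := (comm_of_abelian T hab h.memB h.memA).eq
  have h' := h.swap hcard
  set ψA := axisFun T b with hψA
  set ψB := axisFun T a with hψB
  set ψD := ψA * ψB with hψD
  obtain ⟨a1, aa, abv, ad⟩ := h.axis_values
  obtain ⟨b1, bb, ba, bd⟩ := h'.axis_values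
  rw [hba] at bd
  have hsA : Stable T ψA := h.axis_stable
  have hsB : Stable T ψB := h'.axis_stable
  have hsD : Stable T ψD := fun u hu v hv huv => by
    simp only [ψD, Pi.mul_apply, hsA u hu v hv huv, hsB u hu v hv huv]
  have hgA := isGenChar_lift hsA (h.axis_genChar_res hcard)
  have hgB := isGenChar_lift hsB (h'.axis_genChar_res hcard)
  have hgD : IsGeneralizedCharacter G (lift T ψD) :=
    isGenChar_lift hsD (IsGenChar.mul (h.axis_genChar_res hcard) (h'.axis_genChar_res hcard))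
  have hd1 : ψD 1 = 0 := by simp [ψD, ψA, ψB, a1]
  have hda : ψD a = 0 := by simp [ψD, ψA, ψB, ba]
  have hdb : ψD b = 0 := by simp [ψD, ψA, ψB, abv]
  have hdd : ψD (a * b) = 9 := by simp [ψD, ψA, ψB, ad, bd]; norm_num
  have eAA : classInner (lift T ψA) (lift T ψA) = 3 := by
    rw [h.inner_eq hcard hM hsA hsA a1]; simp [ψA, aa, abv, ad]; norm_num [map_ofNat]
  have eBB : classInner (lift T ψB) (lift T ψB) = 3 := by
    rw [h.inner_eq hcard hM hsB hsB b1]; simp [ψB, bb, ba, bd]; norm_num [map_ofNat]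
  have eAB : classInner (lift T ψA) (lift T ψB) = 1 := by
    rw [h.inner_eq hcard hM hsA hsB a1]; simp [ψA, ψB, aa, abv, ad, bb, ba, bd]; norm_num [map_ofNat]
  have eAD : classInner (lift T ψA) (lift T ψD) = 3 := by
    rw [h.inner_eq hcard hM hsA hsD a1, hda, hdb, hdd]; simp [ψA, ad]; norm_num [map_ofNat]
  have eBD : classInner (lift T ψB) (lift T ψD) = 3 := by
    rw [h.inner_eq hcard hM hsB hsD b1, hda, hdb, hdd]; simp [ψB, bd]; norm_num [map_ofNat]
  have eDD : classInner (lift T ψD) (lift T ψD) = 9 := by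
    rw [h.inner_eq hcard hM hsD hsD hd1, hda, hdb, hdd]; simp; norm_num [map_ofNat]
  have eA1 : classInner (lift T ψA) (trivialIrr G : G → ℂ) = 1 := by
    rw [← lift_const T, h.inner_eq hcard hM hsA (stable_one T) a1]; simp [ψA, aa, abv, ad]; norm_num [map_ofNat]
  have eB1 : classInner (lift T ψB) (trivialIrr G : G → ℂ) = 1 := by
    rw [← lift_const T, h.inner_eq hcard hM hsB (stable_one T) b1]; simp [ψB, bb, ba, bd]; norm_num [map_ofNat]
  have eD1 : classInner (lift T ψD) (trivialIrr G : G → ℂ) = 1 := by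
    rw [← lift_const T, h.inner_eq hcard hM hsD (stable_one T) hd1, hda, hdb, hdd]; simp
  obtain ⟨cA, hcA, hAτ, X, Y, hXY, hX, hY, hsX, hsY, hAonly, hAdeg, hAsum⟩ :=
    three_terms hgA eAA eA1 (by rw [lift_one hsA]; exact a1)
  obtain ⟨cB, hcB, hBτ, P, Q, hPQ, hP, hQ, hsP, hsQ, hBonly, hBdeg, hBsum⟩ :=
    three_terms hgB eBB eB1 (by rw [lift_one hsB]; exact b1)
  obtain ⟨cD, hcD, -⟩ := IsGenChar.exists_decomp hgD
  have sAB : 1 + cA X * cB X + cA Y * cB Y = 1 := by
    have h0 := inner_eq_sum hgB hcA hcB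
    rw [eAB, hAsum, hBτ] at h0
    exact_mod_cast h0.symm
  have hDτ : cD (trivialIrr G) = 1 := by exact_mod_cast (hcD _).symm.trans eD1
  have sAD : 1 + cA X * cD X + cA Y * cD Y = 3 := by
    have h0 := inner_eq_sum hgD hcA hcD
    rw [eAD, hAsum, hDτ] at h0
    exact_mod_cast h0.symm
  have sBD : 1 + cB P * cD P + cB Q * cD Q = 3 := by
    have h0 := inner_eq_sum hgD hcB hcD
    rw [eBD, hBsum, hDτ] at h0
    exact_mod_cast h0.symm
  have sDD : ∑ χ, cD χ ^ 2 = 9 := by
    have h0 := inner_eq_sum hgD hcD hcD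
    rw [eDD] at h0
    simp only [sq]
    exact_mod_cast h0.symm
  have hdX := charDeg_pos X
  have hdY := charDeg_pos Y
  -- disjointness
  have hdis : X ≠ P ∧ X ≠ Q ∧ Y ≠ P ∧ Y ≠ Q := by
    have hBzero : ∀ χ, χ ≠ trivialIrr G → χ ≠ P → χ ≠ Q → cB χ = 0 := fun χ e1 e2 e3 =>
      not_not.1 fun hc => by rcases hBonly χ hc with e | e | e <;> contradiction
    have hnone : cB X = 0 ∧ cB Y = 0 := by
      by_cases hx : cB X = 0
      · refine ⟨hx, ?_⟩
        rw [hx, mul_zero] at sAB
        have : cA Y * cB Y = 0 := by omega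
        exact (mul_eq_zero.1 this).resolve_left (by rcases hsY with e | e <;> omega)
      exfalso
      have hy : cB Y ≠ 0 := fun hy => by
        rw [hy, mul_zero] at sAB
        have : cA X * cB X = 0 := by omega
        exact hx ((mul_eq_zero.1 this).resolve_left (by rcases hsX with e | e <;> omega))
      rcases hBonly X hx with e | e | e
      · exact hX e
      · rcases hBonly Y hy with f | f | f
        · exact hY f
        · exact hXY (e.trans f.symm)
        · subst e f
          rcases hsX with e | e <;> rcases hsY with f | f <;> rcases hsP with g | g <;>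
            rcases hsQ with i | i <;> rw [e, f, g, i] at sAB <;>
            rw [e, f] at hAdeg <;> rw [g, i] at hBdeg <;> omega
      · rcases hBonly Y hy with f | f | f
        · exact hY f
        · subst e f
          rcases hsX with e | e <;> rcases hsY with f | f <;> rcases hsP with g | g <;>
            rcases hsQ with i | i <;> rw [e, f, i, g] at sAB <;>
            rw [e, f] at hAdeg <;> rw [g, i] at hBdeg <;> omega
        · exact hXY (e.trans f.symm)
    have hP0 : cB P ≠ 0 := by rcases hsP with e | e <;> omega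
    have hQ0 : cB Q ≠ 0 := by rcases hsQ with e | e <;> omega
    exact ⟨fun e => hP0 (e ▸ hnone.1), fun e => hQ0 (e ▸ hnone.1), fun e => hP0 (e ▸ hnone.2),
      fun e => hQ0 (e ▸ hnone.2)⟩
  -- values on the class of four
  have hd3 : (a * b) ^ 3 = 1 := by
    rw [(comm_of_abelian T hab h.memA h.memB).mul_pow, h.cubeA, h.cubeB, one_mul]
  have hTC : (T : Subgroup G) ≤ Subgroup.centralizer ({a * b} : Set G) := fun x hx =>
    Subgroup.mem_centralizer_singleton_iff.2
      (comm_of_abelian T hab hx (mul_mem h.memA h.memB)).eq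
  have hval : ∀ (ψ : G → ℂ) (c : IrrCharacter G → ℤ), Stable T ψ →
      (∀ χ : IrrCharacter G, classInner (lift T ψ) (χ : G → ℂ) = (c χ : ℂ)) →
      ∀ χ, c χ ≠ 0 → (χ : G → ℂ) (a * b) = (cD χ : ℂ) ∧ cD χ ≠ 0 := by
    intro ψ c hψ hc χ hne
    have hB : χ ∈ principalBlock M G :=
      mem_principal_of_inner hM hψ χ (by rw [hc]; exact_mod_cast hne)
    have h0 := h.inner_prod hcard hM hsD hd1 hda hdb hdd χ hB
    rw [hcD] at h0
    have h1 : (χ : G → ℂ) (a * b) = (cD χ : ℂ) := by
      rw [← map_intCast (starRingEnd ℂ), h0, Complex.conj_conj]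
    refine ⟨h1, fun e => value_ne_zero hM T hTC hB (by rw [h1, e, Int.cast_zero])⟩
  obtain ⟨vX, nX⟩ := hval ψA cA hsA hcA X (by rcases hsX with e | e <;> omega)
  obtain ⟨vY, nY⟩ := hval ψA cA hsA hcA Y (by rcases hsY with e | e <;> omega)
  obtain ⟨-, nP⟩ := hval ψB cB hsB hcB P (by rcases hsP with e | e <;> omega)
  obtain ⟨-, nQ⟩ := hval ψB cB hsB hcB Q (by rcases hsQ with e | e <;> omega)
  have hfive : cD X ^ 2 + cD Y ^ 2 + cD P ^ 2 + cD Q ^ 2 ≤ 8 := by
    have hsub := Finset.sum_le_sum_of_subset_of_nonneg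
      (Finset.subset_univ ({trivialIrr G, X, Y, P, Q} : Finset (IrrCharacter G)))
      (f := fun χ => cD χ ^ 2) (fun χ _ _ => sq_nonneg _)
    rw [sDD, Finset.sum_insert (by simp [hX.symm, hY.symm, hP.symm, hQ.symm]),
      Finset.sum_insert (by simp [hXY, hdis.1, hdis.2.1]),
      Finset.sum_insert (by simp [hdis.2.2.1, hdis.2.2.2]), Finset.sum_pair hPQ, hDτ] at hsub
    linarith
  have hP1 : 1 ≤ cD P ^ 2 := by have := mul_self_pos.2 nP; rw [sq]; omega
  have hQ1 : 1 ≤ cD Q ^ 2 := by have := mul_self_pos.2 nQ; rw [sq]; omega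
  have hsmall : ∀ m : ℤ, m ^ 2 ≤ 6 → -2 ≤ m ∧ m ≤ 2 := fun m hm =>
    ⟨by nlinarith, by nlinarith⟩
  have hbX := hsmall (cD X) (by nlinarith [sq_nonneg (cD Y)])
  have hbY := hsmall (cD Y) (by nlinarith [sq_nonneg (cD X)])
  have hmXY : (cD X = 1 ∨ cD X = -1) ∧ (cD Y = 1 ∨ cD Y = -1) := by
    rcases hsX with e | e <;> rcases hsY with f | f <;> rw [e, f] at sAD <;> omega
  have h3X : ¬ 3 ∣ charDegree (X : G → ℂ) := fun hdv => by
    obtain ⟨k, hk⟩ := val_mod_three X hd3 h.prod_ne_one vX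
    rcases hmXY.1 with e | e <;> rw [e] at hk <;> omega
  have h3Y : ¬ 3 ∣ charDegree (Y : G → ℂ) := fun hdv => by
    obtain ⟨k, hk⟩ := val_mod_three Y hd3 h.prod_ne_one vY
    rcases hmXY.2 with e | e <;> rw [e] at hk <;> omega
  have hne : charDegree (X : G → ℂ) ≠ charDegree (Y : G → ℂ) := fun e => by
    rcases hsX with f | f <;> rcases hsY with g | g <;> rw [f, g, e] at hAdeg <;> omega
  -- rationality
  have hrat : ∀ Z, (Z = X ∨ Z = Y) → ∀ k : ℕ, k.Coprime (Nat.card G) → ∀ g,
      (Z : G → ℂ) (g ^ k) = (Z : G → ℂ) g := by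
    intro Z hZ k hk g
    have hk3 : k.Coprime 3 := hk.coprime_dvd_right
      ((show 3 ∣ Nat.card (T : Subgroup G) by rw [hcard]; norm_num).trans
        (Subgroup.card_subgroup_dvd_card _))
    have hinv : lift T (fun v => ψA (v ^ k)) = lift T ψA := by
      funext x
      obtain ⟨hv, -⟩ := (exists_mem_conj_ppt x T).choose_spec
      show ψA ((exists_mem_conj_ppt x T).choose ^ k) = ψA (exists_mem_conj_ppt x T).choose
      generalize (exists_mem_conj_ppt x T).choose = v at hv ⊢
      have hcop : k.Coprime (orderOf v) := by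
        have h9 := Subgroup.orderOf_dvd_natCard _ hv
        rw [hcard] at h9
        exact (show k.Coprime 9 from hk3.pow_right 2).coprime_dvd_right h9
      have hiff : v ^ k ∈ Subgroup.zpowers b ↔ v ∈ Subgroup.zpowers b := by
        refine ⟨fun hh => ?_, fun hh => pow_mem hh k⟩
        obtain ⟨j, hj⟩ := exists_pow_eq_self_of_coprime hcop
        rw [← hj]
        exact pow_mem hh j
      simp only [ψA, axisFun, hv, pow_mem hv k, true_and, hiff]
    have heq : cA (twist Z hk) = cA Z := by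
      have h0 := classInner_pow hk (lift T ψA) (Z : G → ℂ)
      rw [show (fun x => lift T ψA (x ^ k)) = lift T ψA from
        (funext fun x => lift_pow hsA hk x).trans hinv] at h0
      have h1 := hcA (twist Z hk)
      rw [show ((twist Z hk : IrrCharacter G) : G → ℂ) = fun x => (Z : G → ℂ) (x ^ k) from rfl,
        h0, hcA] at h1
      exact_mod_cast h1.symm
    have hZ0 : cA Z ≠ 0 := by
      rcases hZ with rfl | rfl
      · rcases hsX with e | e <;> omega
      · rcases hsY with e | e <;> omega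
    have hdeg := twist_deg Z hk
    have hfix : twist Z hk = Z := by
      rcases hAonly _ (heq ▸ hZ0) with e | e | e
      · exact absurd e (twist_ne_trivial (by rcases hZ with rfl | rfl <;> assumption) hk)
      · rcases hZ with rfl | rfl
        · exact e
        · exact absurd (e ▸ hdeg) hne
      · rcases hZ with rfl | rfl
        · exact absurd (e ▸ hdeg) hne.symm
        · exact e
    exact congrFun (congrArg Subtype.val hfix) g
  rcases lt_or_gt_of_ne hne with hlt | hlt
  · refine ⟨X, Y, hX, hY, hrat X (Or.inl rfl), h3X, h3Y, ?_⟩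
    rcases hsX with f | f <;> rcases hsY with g | g <;> rw [f, g] at hAdeg <;> omega
  · refine ⟨Y, X, hY, hX, hrat Y (Or.inr rfl), h3Y, h3X, ?_⟩
    rcases hsX with f | f <;> rcases hsY with g | g <;> rw [f, g] at hAdeg <;> omega

end Cfsg.Agent.Spor.NineQ
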