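import Cfsg.Agent.Lib.Spor.NineQ.Section
import Cfsg.Agent.Lib.Block.SmallPSL.Facts
import Cfsg.Agent.Lib.Transfer.Fusion
import Cfsg.Agent.Lib.Transfer.NormalComplement

/-!
Fusion in a Sylow 3-subgroup of order nine of a simple group with at least three classes of
nontrivial 3-elements: either all classes are inverse pairs, or two axes and one class of four.
-/

namespace Cfsg.Agent.Spor.NineQ

open Cfsg.Agent.Char.SecInner Cfsg.Agent.Transfer

set_option linter.unusedSectionVars false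
set_option linter.style.haveILetI false

universe u

variable {G : Type u} [Group G] [Fintype G]

/-- Classes in the Sylow subgroup. -/
noncomputable def cls {p : ℕ} [Fact p.Prime] (R : Sylow p G) (v : G) : Finset G := by
  classical exact Finset.univ.filter fun w : G => w ∈ (R : Subgroup G) ∧ IsConj v w

theorem mem_cls {p : ℕ} [Fact p.Prime] {R : Sylow p G} {v w : G} :
    w ∈ cls R v ↔ w ∈ (R : Subgroup G) ∧ IsConj v w := by simp [cls]

theorem cnum_eq_cls {p : ℕ} [Fact p.Prime] (R : Sylow p G) (v : G) :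
    cnum R v = (cls R v).card := by
  unfold cnum cls
  congr 1

theorem cls_congr {p : ℕ} [Fact p.Prime] {R : Sylow p G} {v w : G} (h : IsConj v w) :
    cls R v = cls R w := by
  ext x
  simp only [mem_cls]
  exact and_congr_right fun _ => ⟨fun hx => h.symm.trans hx, fun hx => h.trans hx⟩

theorem isConj_inv {u v : G} (h : IsConj u v) : IsConj u⁻¹ v⁻¹ := by
  obtain ⟨g, hg⟩ := isConj_iff.1 h
  exact isConj_iff.2 ⟨g, by rw [← hg]; group⟩

theorem cls_one {p : ℕ} [Fact p.Prime] (R : Sylow p G) : cls R 1 = {1} := by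
  ext x
  simp only [mem_cls, isConj_one_right, Finset.mem_singleton]
  exact ⟨fun h => h.2, fun h => ⟨h ▸ one_mem _, h⟩⟩

variable {p : ℕ} [Fact p.Prime] (R : Sylow p G)

theorem comm_of_abelian (hab : IsMulCommutative (R : Subgroup G)) {a x : G}
    (ha : a ∈ (R : Subgroup G)) (hx : x ∈ (R : Subgroup G)) : Commute a x :=
  congrArg Subtype.val (hab.is_comm.comm ⟨a, ha⟩ ⟨x, hx⟩)

theorem fusion (hab : IsMulCommutative (R : Subgroup G)) {u v : G} (hu : u ∈ (R : Subgroup G))
    (hv : v ∈ (R : Subgroup G)) (h : IsConj u v) :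
    ∃ n ∈ Subgroup.normalizer (R : Set G), n * u * n⁻¹ = v := by
  obtain ⟨g, rfl⟩ := isConj_iff.1 h
  exact exists_normalizer_conj_of_abelian R hab hu hv

theorem fusion_pair (hab : IsMulCommutative (R : Subgroup G)) {v x y g : G}
    (hv : v ∈ (R : Subgroup G)) (hx : x ∈ (R : Subgroup G)) (hy : y ∈ (R : Subgroup G))
    (hgv : g * v = v * g) (hgx : g * x * g⁻¹ = y) :
    ∃ n ∈ Subgroup.normalizer (R : Set G), n * v * n⁻¹ = v ∧ n * x * n⁻¹ = y := by
  set H := Subgroup.centralizer ({v} : Set G) ⊓ Subgroup.centralizer ({y} : Set G) with hH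
  have hle : (R : Subgroup G) ≤ H := fun a ha => by
    simp only [H, Subgroup.mem_inf, Subgroup.mem_centralizer_singleton_iff]
    exact ⟨(comm_of_abelian R hab ha hv).eq, (comm_of_abelian R hab ha hy).eq⟩
  have h2 : ∀ a ∈ (R : Subgroup G), g * a * g⁻¹ ∈ H := by
    intro a ha
    simp only [H, Subgroup.mem_inf, Subgroup.mem_centralizer_singleton_iff]
    have hv' : g * v * g⁻¹ = v := by rw [hgv, mul_inv_cancel_right]
    constructor
    · have := ((comm_of_abelian R hab ha hv).map (MulAut.conj g).toMonoidHom)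
      simpa [hv'] using this.eq
    · have := ((comm_of_abelian R hab ha hx).map (MulAut.conj g).toMonoidHom)
      simpa [hgx] using this.eq
  obtain ⟨s, hs, hn⟩ := exists_mem_mul_mem_normalizer R hle g h2
  simp only [H, Subgroup.mem_inf, Subgroup.mem_centralizer_singleton_iff] at hs
  refine ⟨_, hn, ?_, ?_⟩
  · calc s * g * v * (s * g)⁻¹ = s * (g * v) * g⁻¹ * s⁻¹ := by group
      _ = s * v * s⁻¹ := by rw [hgv]; group
      _ = v := by rw [hs.1, mul_inv_cancel_right]
  · calc s * g * x * (s * g)⁻¹ = s * (g * x * g⁻¹) * s⁻¹ := by group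
      _ = y := by rw [hgx, hs.2, mul_inv_cancel_right]

/-- A centralizer in which the normalizer fixes the Sylow subgroup has a normal complement. -/
theorem complement_of_fixed (hab : IsMulCommutative (R : Subgroup G)) {v : G}
    (hv : v ∈ (R : Subgroup G))
    (hfix : ∀ n ∈ Subgroup.normalizer (R : Set G), n * v * n⁻¹ = v →
      ∀ x ∈ (R : Subgroup G), n * x * n⁻¹ = x) :
    Cfsg.HasNormalPComplement p (Subgroup.centralizer ({v} : Set G)) := by
  have hle : (R : Subgroup G) ≤ Subgroup.centralizer ({v} : Set G) := fun a ha =>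
    Subgroup.mem_centralizer_singleton_iff.2 (comm_of_abelian R hab ha hv).eq
  refine hasNormalPComplement_of_control (R.subtype hle) fun x hx y hy ⟨g, hg⟩ => ?_
  simp only [Sylow.coe_subtype, Subgroup.mem_subgroupOf] at hx hy
  obtain ⟨n, hn, hnv, hnx⟩ := fusion_pair R hab (v := v) hv hx hy (g := (g : G))
    (Subgroup.mem_centralizer_singleton_iff.1 g.2) (by rw [← hg]; rfl)
  refine ⟨1, one_mem _, Subtype.ext ?_⟩
  rw [← hnx, hfix n hn hnv x hx]
  simp

theorem cnum_coprime (hab : IsMulCommutative (R : Subgroup G)) {v : G}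
    (hv : v ∈ (R : Subgroup G)) : ¬ p ∣ (cls R v).card := by
  classical
  set N := Subgroup.normalizer (R : Set G) with hN
  letI : MulAction N G :=
    MulAction.compHom G ((ConjAct.toConjAct : G ≃* ConjAct G).toMonoidHom.comp N.subtype)
  have hsmul : ∀ (n : N) (x : G), n • x = (n : G) * x * (n : G)⁻¹ := fun n x => by
    show ConjAct.toConjAct (n : G) • x = _
    rw [ConjAct.toConjAct_smul]
  have horb : MulAction.orbit N v = (cls R v : Set G) := by
    ext w
    simp only [MulAction.mem_orbit_iff, Finset.mem_coe, mem_cls, hsmul]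
    constructor
    · rintro ⟨n, rfl⟩
      exact ⟨(Subgroup.mem_normalizer_iff.1 n.2 v).1 hv, isConj_iff.2 ⟨n, rfl⟩⟩
    · rintro ⟨hw, hc⟩
      obtain ⟨n, hn, hn'⟩ := fusion R hab hv hw hc
      exact ⟨⟨n, hn⟩, hn'⟩
  have hidx : (MulAction.stabilizer N v).index = (cls R v).card := by
    rw [MulAction.index_stabilizer, horb, Set.ncard_coe_finset]
  have hle : (R : Subgroup G).subgroupOf N ≤ MulAction.stabilizer N v := fun n hn => by
    rw [MulAction.mem_stabilizer_iff, hsmul,
      (comm_of_abelian R hab (Subgroup.mem_subgroupOf.1 hn) hv).eq, mul_inv_cancel_right]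
  intro hd
  have h1 : p ∣ ((R : Subgroup G).subgroupOf N).index :=
    hd.trans (hidx ▸ Subgroup.index_dvd_of_le hle)
  exact R.not_dvd_index (h1.trans
    (Dvd.intro _ (Subgroup.relIndex_mul_index (Subgroup.le_normalizer (H := (R : Subgroup G))))))

section Simple

variable [IsSimpleGroup G]

theorem two_le_cls (hab : IsMulCommutative (R : Subgroup G))
    (hother : ∃ g : G, g ≠ 1 ∧ Nat.Coprime (orderOf g) p) {v : G} (hv : v ∈ (R : Subgroup G))
    (hv1 : v ≠ 1) : 2 ≤ (cls R v).card := by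
  by_contra hc
  refine hv1 (Cfsg.Agent.Block.SmallPSL.eq_one_of_central_normalizer R hab hother hv fun n hn => ?_)
  have h1 : v ∈ cls R v := mem_cls.2 ⟨hv, IsConj.refl _⟩
  have h2 : n * v * n⁻¹ ∈ cls R v :=
    mem_cls.2 ⟨(Subgroup.mem_normalizer_iff.1 hn v).1 hv, isConj_iff.2 ⟨n, rfl⟩⟩
  have h3 := Finset.card_le_one.1 (by omega) _ h2 _ h1
  exact mul_inv_eq_iff_eq_mul.1 h3

/-- A class of size two is an inverse pair. -/
theorem pair (hab : IsMulCommutative (R : Subgroup G))
    (hother : ∃ g : G, g ≠ 1 ∧ Nat.Coprime (orderOf g) p) {v w : G} (hv : v ∈ (R : Subgroup G))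
    (hc2 : (cls R v).card = 2) (hw : w ∈ cls R v) (hne : w ≠ v) : w = v⁻¹ := by
  classical
  have hwR := (mem_cls.1 hw).1
  have hpair : ({v, w} : Finset G) = cls R v := by
    refine Finset.eq_of_subset_of_card_le ?_ (by rw [Finset.card_pair hne.symm, hc2])
    intro x hx
    simp only [Finset.mem_insert, Finset.mem_singleton] at hx
    rcases hx with rfl | rfl
    · exact mem_cls.2 ⟨hv, IsConj.refl _⟩
    · exact hw
  refine eq_inv_of_mul_eq_one_right (Cfsg.Agent.Block.SmallPSL.eq_one_of_central_normalizer R hab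
    hother (mul_mem hv hwR) fun n hn => ?_)
  have him : ∀ x ∈ ({v, w} : Finset G), n * x * n⁻¹ ∈ ({v, w} : Finset G) := by
    intro x hx
    rw [hpair] at hx ⊢
    obtain ⟨hxR, hxc⟩ := mem_cls.1 hx
    exact mem_cls.2 ⟨(Subgroup.mem_normalizer_iff.1 hn x).1 hxR,
      hxc.trans (isConj_iff.2 ⟨n, rfl⟩)⟩
  have hne' : n * v * n⁻¹ ≠ n * w * n⁻¹ := fun e => hne.symm (by simpa using e)
  have h1 := him v (by simp)
  have h2 := him w (by simp)
  simp only [Finset.mem_insert, Finset.mem_singleton] at h1 h2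
  refine mul_inv_eq_iff_eq_mul.1 ?_
  rw [show n * (v * w) * n⁻¹ = n * v * n⁻¹ * (n * w * n⁻¹) by group]
  rcases h1 with h1 | h1 <;> rcases h2 with h2 | h2
  · exact absurd (h1.trans h2.symm) hne'
  · rw [h1, h2]
  · rw [h1, h2, (comm_of_abelian R hab hv hwR).eq]
  · exact absurd (h1.trans h2.symm) hne'

end Simple

/-- All classes are inverse pairs. -/
def Pairs : Prop :=
  ∀ v ∈ (R : Subgroup G), v ≠ 1 → IsConj v v⁻¹ ∧
    ∀ w ∈ (R : Subgroup G), IsConj v w → w = v ∨ w = v⁻¹

/-- Two axes and one class of four. -/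
structure Klein (a b : G) : Prop where
  memA : a ∈ (R : Subgroup G)
  memB : b ∈ (R : Subgroup G)
  cubeA : a ^ 3 = 1
  cubeB : b ^ 3 = 1
  neA : a ≠ 1
  neB : b ≠ 1
  clsA : ∀ w, w ∈ cls R a ↔ w = a ∨ w = a⁻¹
  clsB : ∀ w, w ∈ cls R b ↔ w = b ∨ w = b⁻¹
  apart : ¬ IsConj a b
  apartA : ¬ IsConj a (a * b)
  apartB : ¬ IsConj b (a * b)
  four : (cls R (a * b)).card = 4
  cover : ∀ v ∈ (R : Subgroup G), v = 1 ∨ IsConj a v ∨ IsConj b v ∨ IsConj (a * b) v

section Three

variable [IsSimpleGroup G] (T : Sylow 3 G) [Fact (Nat.Prime 3)]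

theorem pow_two_ne_one (hcard : Nat.card (T : Subgroup G) = 9) {v : G} (hv : v ∈ (T : Subgroup G))
    (hv1 : v ≠ 1) : v ≠ v⁻¹ := by
  intro e
  apply hv1
  have h2 : v ^ 2 = 1 := by rw [pow_two]; exact mul_eq_one_iff_eq_inv.2 e
  have h9 : v ^ 9 = 1 := by
    have := pow_card_eq_one' (x := (⟨v, hv⟩ : (T : Subgroup G)))
    rw [hcard] at this
    exact congrArg Subtype.val this
  calc v = v ^ 9 * ((v ^ 2) ^ 4)⁻¹ := by group
    _ = 1 := by rw [h9, h2, one_pow, inv_one, one_mul]

theorem abelian_nine (hcard : Nat.card (T : Subgroup G) = 9) :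
    IsMulCommutative (T : Subgroup G) :=
  IsPGroup.isMulCommutative_of_card_eq_prime_sq (p := 3) (by rw [hcard]; norm_num)

/-- The dichotomy. -/
theorem dichotomy (hcard : Nat.card (T : Subgroup G) = 9)
    (hother : ∃ g : G, g ≠ 1 ∧ Nat.Coprime (orderOf g) 3)
    (h3 : ∃ x ∈ (T : Subgroup G), ∃ y ∈ (T : Subgroup G), ∃ z ∈ (T : Subgroup G),
      x ≠ 1 ∧ y ≠ 1 ∧ z ≠ 1 ∧ ¬ IsConj x y ∧ ¬ IsConj x z ∧ ¬ IsConj y z) :
    Pairs T ∨ ∃ a b, Klein T a b := by
  classical
  have hab := abelian_nine T hcard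
  obtain ⟨x, hx, y, hy, z, hz, hx1, hy1, hz1, hxy, hxz, hyz⟩ := h3
  set S := (Finset.univ.filter fun w : G => w ∈ (T : Subgroup G)).erase 1 with hS
  have hSc : S.card = 8 := by
    rw [hS, Finset.card_erase_of_mem (by simp)]
    have : (Finset.univ.filter fun w : G => w ∈ (T : Subgroup G)).card = 9 := by
      rw [← hcard, Nat.card_eq_fintype_card, ← Fintype.card_subtype]
    omega
  have hsub : ∀ v, v ≠ 1 → cls T v ⊆ S := fun v hv w hw => by
    obtain ⟨hwR, hc⟩ := mem_cls.1 hw
    simp only [S, Finset.mem_erase, Finset.mem_filter, Finset.mem_univ, true_and]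
    exact ⟨fun e => hv (by rw [e, isConj_one_left] at hc; exact hc), hwR⟩
  have hdisj : ∀ u v : G, ¬ IsConj u v → Disjoint (cls T u) (cls T v) := fun u v huv =>
    Finset.disjoint_left.2 fun w hu hv => huv ((mem_cls.1 hu).2.trans (mem_cls.1 hv).2.symm)
  have h2 : ∀ v ∈ (T : Subgroup G), v ≠ 1 → 2 ≤ (cls T v).card := fun v hv hv1 =>
    two_le_cls T hab hother hv hv1
  have hsum3 : ∀ u v w : G, u ≠ 1 → v ≠ 1 → w ≠ 1 → ¬ IsConj u v → ¬ IsConj u w → ¬ IsConj v w →
      (cls T u).card + (cls T v).card + (cls T w).card ≤ 8 := by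
    intro u v w hu hv hw e1 e2 e3
    rw [← hSc, ← Finset.card_union_of_disjoint (hdisj u v e1),
      ← Finset.card_union_of_disjoint (Finset.disjoint_union_left.2 ⟨hdisj u w e2, hdisj v w e3⟩)]
    exact Finset.card_le_card (Finset.union_subset (Finset.union_subset (hsub u hu) (hsub v hv))
      (hsub w hw))
  -- every class has two other classes besides it
  have hothers : ∀ v ∈ (T : Subgroup G), v ≠ 1 → ∃ u ∈ (T : Subgroup G), ∃ w ∈ (T : Subgroup G),
      u ≠ 1 ∧ w ≠ 1 ∧ ¬ IsConj u w ∧ ¬ IsConj v u ∧ ¬ IsConj v w := by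
    intro v hv hv1
    by_cases e1 : IsConj v x
    · exact ⟨y, hy, z, hz, hy1, hz1, hyz, fun e => hxy (e1.symm.trans e),
        fun e => hxz (e1.symm.trans e)⟩
    by_cases e2 : IsConj v y
    · exact ⟨x, hx, z, hz, hx1, hz1, hxz, fun e => hxy (e.symm.trans e2),
        fun e => hyz (e2.symm.trans e)⟩
    exact ⟨x, hx, y, hy, hx1, hy1, hxy, e1, e2⟩
  have hsize : ∀ v ∈ (T : Subgroup G), v ≠ 1 → (cls T v).card = 2 ∨ (cls T v).card = 4 := by
    intro v hv hv1
    obtain ⟨u, hu, w, hw, hu1, hw1, e1, e2, e3⟩ := hothers v hv hv1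
    have := hsum3 v u w hv1 hu1 hw1 e2 e3 e1
    have := h2 u hu hu1
    have := h2 w hw hw1
    have := h2 v hv hv1
    have h3' := cnum_coprime T hab hv
    have : (cls T v).card ≠ 3 := fun e => h3' (by rw [e])
    omega
  have hpair : ∀ v ∈ (T : Subgroup G), v ≠ 1 → (cls T v).card = 2 → IsConj v v⁻¹ ∧
      ∀ w, w ∈ cls T v ↔ w = v ∨ w = v⁻¹ := by
    intro v hv hv1 hc
    obtain ⟨w, hw, hne⟩ := Finset.exists_mem_ne (by rw [hc]; norm_num) v
    have hwi : w = v⁻¹ := pair T hab hother hv hc hw hne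
    refine ⟨hwi ▸ (mem_cls.1 hw).2, fun w' => ⟨fun hw' => ?_, ?_⟩⟩
    · by_cases e : w' = v
      · exact Or.inl e
      · exact Or.inr (pair T hab hother hv hc hw' e)
    · rintro (rfl | rfl)
      · exact mem_cls.2 ⟨hv, IsConj.refl _⟩
      · exact hwi ▸ hw
  by_cases hall : ∀ v ∈ (T : Subgroup G), v ≠ 1 → (cls T v).card = 2
  · refine Or.inl fun v hv hv1 => ?_
    obtain ⟨h1, h2⟩ := hpair v hv hv1 (hall v hv hv1)
    exact ⟨h1, fun w hw hc => (h2 w).1 (mem_cls.2 ⟨hw, hc⟩)⟩
  · refine Or.inr ?_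
    push Not at hall
    obtain ⟨v, hv, hv1, hv4⟩ := hall
    have hv4 : (cls T v).card = 4 := (hsize v hv hv1).resolve_left hv4
    obtain ⟨a, ha, b, hb, ha1, hb1, e1, e2, e3⟩ := hothers v hv hv1
    have h8 := hsum3 v a b hv1 ha1 hb1 e2 e3 e1
    have h2a := h2 a ha ha1
    have h2b := h2 b hb hb1
    have hca : (cls T a).card = 2 := by omega
    have hcb : (cls T b).card = 2 := by omega
    obtain ⟨hai, hA⟩ := hpair a ha ha1 hca
    obtain ⟨hbi, hB⟩ := hpair b hb hb1 hcb
    have hcoverS : cls T v ∪ cls T a ∪ cls T b = S := by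
      refine Finset.eq_of_subset_of_card_le
        (Finset.union_subset (Finset.union_subset (hsub v hv1) (hsub a ha1)) (hsub b hb1)) ?_
      rw [Finset.card_union_of_disjoint
        (Finset.disjoint_union_left.2 ⟨hdisj v b e3, hdisj a b e1⟩),
        Finset.card_union_of_disjoint (hdisj v a e2), hSc]
      omega
    have hcover : ∀ w ∈ (T : Subgroup G), w = 1 ∨ IsConj a w ∨ IsConj b w ∨ IsConj v w := by
      intro w hw
      by_cases hw1 : w = 1
      · exact Or.inl hw1
      have : w ∈ S := by simp [S, hw, hw1]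
      rw [← hcoverS, Finset.mem_union, Finset.mem_union] at this
      rcases this with (h | h) | h
      · exact Or.inr (Or.inr (Or.inr (mem_cls.1 h).2))
      · exact Or.inr (Or.inl (mem_cls.1 h).2)
      · exact Or.inr (Or.inr (Or.inl (mem_cls.1 h).2))
    have hthree : ∀ c ∈ (T : Subgroup G), (∀ w, w ∈ cls T c ↔ w = c ∨ w = c⁻¹) → c ^ 3 = 1 := by
      intro c hc hC
      by_contra h3c
      have h9 : orderOf c = 9 := by
        refine orderOf_eq_prime_pow (p := 3) (n := 1) (by simpa using h3c) ?_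
        have := pow_card_eq_one' (x := (⟨c, hc⟩ : (T : Subgroup G)))
        rw [hcard] at this
        exact congrArg Subtype.val this
      have hz : Subgroup.zpowers c = (T : Subgroup G) :=
        Subgroup.eq_of_le_of_card_ge (Subgroup.zpowers_le.2 hc)
          (by rw [Nat.card_zpowers, h9, hcard])
      have hle : cls T v ⊆ {v, v⁻¹} := by
        intro w hw
        obtain ⟨hwR, hwc⟩ := mem_cls.1 hw
        obtain ⟨n, hn, hnv⟩ := fusion T hab hv hwR hwc
        have hnc : n * c * n⁻¹ = c ∨ n * c * n⁻¹ = c⁻¹ :=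
          (hC _).1 (mem_cls.2 ⟨(Subgroup.mem_normalizer_iff.1 hn c).1 hc, isConj_iff.2 ⟨n, rfl⟩⟩)
        rw [← hz] at hv
        obtain ⟨i, rfl⟩ := Subgroup.mem_zpowers_iff.1 hv
        rw [← conj_zpow] at hnv
        simp only [Finset.mem_insert, Finset.mem_singleton]
        rcases hnc with e | e <;> rw [e] at hnv <;> rw [← hnv]
        · exact Or.inl rfl
        · exact Or.inr (inv_zpow c i)
      have := (Finset.card_le_card hle).trans Finset.card_le_two
      omega
    have ha3 := hthree a ha hA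
    have hb3 := hthree b hb hB
    have haz : ∀ c : G, c ^ 3 = 1 → c * c = c⁻¹ := fun c hc =>
      eq_inv_of_mul_eq_one_left (by rwa [← pow_two, ← pow_succ])
    have hd : IsConj v (a * b) := by
      rcases hcover (a * b) (mul_mem ha hb) with h | h | h | h
      · exact absurd (show IsConj a b from by
          rw [show b = a⁻¹ from eq_inv_of_mul_eq_one_right h]; exact hai) e1
      · rcases (hA _).1 (mem_cls.2 ⟨mul_mem ha hb, h⟩) with e | e
        · exact absurd (mul_left_cancel (e.trans (mul_one a).symm)) hb1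
        · refine absurd (?_ : IsConj a b) e1
          have : b = a := by
            have h' : b = a⁻¹ * a⁻¹ := calc
              b = a⁻¹ * (a * b) := by group
              _ = _ := by rw [e]
            rw [h', ← mul_inv_rev, haz a ha3, inv_inv]
          rw [this]
      · rcases (hB _).1 (mem_cls.2 ⟨mul_mem ha hb, h⟩) with e | e
        · exact absurd (mul_right_cancel (e.trans (one_mul b).symm)) ha1
        · refine absurd (?_ : IsConj a b) e1
          have : a = b := by
            have h' : a = b⁻¹ * b⁻¹ := calc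
              a = (a * b) * b⁻¹ := by group
              _ = _ := by rw [e]
            rw [h', ← mul_inv_rev, haz b hb3, inv_inv]
          rw [this]
      · exact h
    exact ⟨a, b, ⟨ha, hb, ha3, hb3, ha1, hb1, hA, hB, e1,
      fun e => e2 (hd.trans e.symm), fun e => e3 (hd.trans e.symm),
      by rw [← cls_congr hd]; exact hv4,
      fun w hw => (hcover w hw).imp_right (Or.imp_right (Or.imp_right fun h => hd.symm.trans h))⟩⟩

/-- In the paired case every centralizer has a normal complement. -/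
theorem Pairs.complement (hcard : Nat.card (T : Subgroup G) = 9) (hP : Pairs T) {v : G}
    (hv : v ∈ (T : Subgroup G)) (hv1 : v ≠ 1) :
    Cfsg.HasNormalPComplement 3 (Subgroup.centralizer ({v} : Set G)) := by
  refine complement_of_fixed T (abelian_nine T hcard) hv fun n hn hnv x hx => ?_
  by_cases hx1 : x = 1
  · simp [hx1]
  have hnR : ∀ w ∈ (T : Subgroup G), n * w * n⁻¹ ∈ (T : Subgroup G) := fun w hw =>
    (Subgroup.mem_normalizer_iff.1 hn w).1 hw
  rcases (hP x hx hx1).2 _ (hnR x hx) (isConj_iff.2 ⟨n, rfl⟩) with e | e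
  · exact e
  exfalso
  have hvx1 : v * x ≠ 1 := fun h1 => by
    have : x = v⁻¹ := eq_inv_of_mul_eq_one_right h1
    subst this
    rw [show n * v⁻¹ * n⁻¹ = (n * v * n⁻¹)⁻¹ by group, hnv, inv_inv] at e
    exact pow_two_ne_one T hcard hv hv1 e.symm
  have hvx : n * (v * x) * n⁻¹ = v * x⁻¹ := by
    rw [show n * (v * x) * n⁻¹ = n * v * n⁻¹ * (n * x * n⁻¹) by group, hnv, e]
  rcases (hP _ (mul_mem hv hx) hvx1).2 _ (hnR _ (mul_mem hv hx)) (isConj_iff.2 ⟨n, rfl⟩) with h | h
  · rw [hvx] at h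
    exact pow_two_ne_one T hcard hx hx1 (mul_left_cancel h).symm
  · rw [hvx, mul_inv_rev,
      (comm_of_abelian T (abelian_nine T hcard) (inv_mem hx) (inv_mem hv)).eq] at h
    exact pow_two_ne_one T hcard hv hv1 (mul_right_cancel h)

theorem Pairs.cls_eq (hP : Pairs T) {v : G} (hv : v ∈ (T : Subgroup G)) (hv1 : v ≠ 1) :
    ∀ w, w ∈ cls T v ↔ w = v ∨ w = v⁻¹ := fun w => by
  refine ⟨fun hw => (hP v hv hv1).2 w (mem_cls.1 hw).1 (mem_cls.1 hw).2, ?_⟩
  rintro (rfl | rfl)
  · exact mem_cls.2 ⟨hv, IsConj.refl _⟩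
  · exact mem_cls.2 ⟨inv_mem hv, (hP v hv hv1).1⟩

theorem Pairs.card_cls (hcard : Nat.card (T : Subgroup G) = 9) (hP : Pairs T) {v : G}
    (hv : v ∈ (T : Subgroup G)) (hv1 : v ≠ 1) : (cls T v).card = 2 := by
  classical
  rw [show cls T v = {v, v⁻¹} from Finset.ext fun w => by simp [hP.cls_eq T hv hv1 w],
    Finset.card_pair (pow_two_ne_one T hcard hv hv1)]

end Three

end Cfsg.Agent.Spor.NineQ
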