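import Cfsg.Agent.Lib.Spor.NineQ.Arith
import Cfsg.Agent.Lib.Spor.NineQ.Inv
import Cfsg.Agent.Lib.Spor.NineQ.Klein
import Cfsg.Agent.S0497

/-!
Simple groups of order `9 * 2^a * q^b` with three classes of nontrivial 3-elements.
-/

namespace Cfsg.Agent.Spor.NineQ

open Cfsg Cfsg.Agent.Block Cfsg.Agent.Char

set_option linter.unusedSectionVars false
set_option linter.style.haveILetI false

universe u

section Alt

open Equiv Equiv.Perm

/-- Two classes of nontrivial 3-elements in the alternating group of degree six. -/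
theorem alt_six_two {g : alternatingGroup (Fin 6)} (hg : g ^ 9 = 1) (hg1 : g ≠ 1) :
    IsConj g ⟨swap (0 : Fin 6) 1 * swap 1 2, mem_alternatingGroup.2 (by decide)⟩ ∨
      IsConj g ⟨swap (0 : Fin 6) 1 * swap 1 2 * (swap 3 4 * swap 4 5), mem_alternatingGroup.2 (by decide)⟩ := by
  set p : Perm (Fin 6) := (g : Perm (Fin 6)) with hp
  have h9 : orderOf p ∣ 9 := orderOf_dvd_of_pow_eq_one (by
    rw [hp, ← Subgroup.coe_pow, hg]; rfl)
  have hsum : p.cycleType.sum ≤ 6 := by
    rw [sum_cycleType]; exact p.support.card_le_univ.trans (by simp)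
  have hall : ∀ n ∈ p.cycleType, n = 3 := fun n hn => by
    have h1 := (dvd_of_mem_cycleType hn).trans h9
    have h2 := two_le_of_mem_cycleType hn
    have h3 := (Multiset.le_sum_of_mem hn).trans hsum
    interval_cases n <;> omega
  have hrep := Multiset.eq_replicate_card.2 hall
  have hk : p.cycleType.card = 1 ∨ p.cycleType.card = 2 := by
    have hne : p.cycleType.card ≠ 0 := by
      rw [Ne, Multiset.card_eq_zero, cycleType_eq_zero]
      exact fun e => hg1 (Subtype.ext e)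
    rw [hrep, Multiset.sum_replicate, smul_eq_mul] at hsum
    omega
  have fix : ∀ (x : alternatingGroup (Fin 6)) (τ : Perm (Fin 6)), sign τ = -1 →
      τ * (x : Perm (Fin 6)) = (x : Perm (Fin 6)) * τ → IsConj p (x : Perm (Fin 6)) → IsConj g x := by
    intro x τ hτ hcomm hc
    obtain ⟨π, hπ⟩ := isConj_iff.1 hc
    rcases Int.units_eq_one_or (sign π) with h | h
    · exact isConj_iff.2 ⟨⟨π, mem_alternatingGroup.2 h⟩, Subtype.ext hπ⟩
    · refine isConj_iff.2 ⟨⟨τ * π, mem_alternatingGroup.2 (by rw [map_mul, hτ, h]; rfl)⟩,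
        Subtype.ext ?_⟩
      show τ * π * p * (τ * π)⁻¹ = (x : Perm (Fin 6))
      rw [mul_inv_rev, show τ * π * p * (π⁻¹ * τ⁻¹) = τ * (π * p * π⁻¹) * τ⁻¹ by group, hπ,
        hcomm, mul_inv_cancel_right]
  have h31 : (swap (0 : Fin 6) 1 * swap 1 2 : Perm (Fin 6)).cycleType = {3} := by decide +kernel
  have h32 : (swap (0 : Fin 6) 1 * swap 1 2 * (swap 3 4 * swap 4 5) : Perm (Fin 6)).cycleType =
      {3, 3} := by decide +kernel
  rcases hk with h | h
  · refine Or.inl (fix _ (swap 3 4) (by decide) (by decide +kernel) ?_)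
    rw [isConj_iff_cycleType_eq, hrep, h]
    exact h31.symm
  · refine Or.inr (fix _ (swap 0 3 * swap 1 4 * swap 2 5) (by decide) (by decide +kernel) ?_)
    rw [isConj_iff_cycleType_eq, hrep, h]
    exact h32.symm

end Alt

variable {G : Type u} [Group G] [Fintype G] [IsSimpleGroup G]

theorem exists_coprime (hna : ¬ IsMulCommutative G) {q a b : ℕ} (hq : q.Prime) (hq3 : q ≠ 3)
    (hcard : Nat.card G = 9 * 2 ^ a * q ^ b) : ∃ g : G, g ≠ 1 ∧ Nat.Coprime (orderOf g) 3 := by
  by_cases ha : a = 0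
  · by_cases hb : b = 0
    · exfalso
      haveI := Fact.mk Nat.prime_three
      rw [ha, hb] at hcard
      exact hna (IsPGroup.isMulCommutative_of_card_eq_prime_sq (p := 3) (by rw [hcard]; norm_num))
    · exact SmallPSL.exists_prime_ne_of_mul hq
        (hcard ▸ Dvd.dvd.mul_left (dvd_pow_self q hb) _)
        ((Nat.coprime_primes hq Nat.prime_three).2 hq3)
  · exact SmallPSL.exists_prime_ne_of_mul Nat.prime_two
      (hcard ▸ Dvd.dvd.mul_right (Dvd.dvd.mul_left (dvd_pow_self 2 ha) _) _) (by norm_num)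

theorem card_sylow {q a b : ℕ} (hq : q.Prime) (hq3 : q ≠ 3)
    (hcard : Nat.card G = 9 * 2 ^ a * q ^ b) [Fact (Nat.Prime 3)] (T : Sylow 3 G) :
    Nat.card (T : Subgroup G) = 9 := by
  have h3 : ¬ 3 ∣ 2 ^ a * q ^ b := fun h => by
    rcases Nat.prime_three.dvd_mul.1 h with h | h
    · exact absurd ((Nat.prime_dvd_prime_iff_eq Nat.prime_three Nat.prime_two).1
        (Nat.prime_three.dvd_of_dvd_pow h)) (by norm_num)
    · exact hq3 ((Nat.prime_dvd_prime_iff_eq Nat.prime_three hq).1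
        (Nat.prime_three.dvd_of_dvd_pow h)).symm
  rw [T.card_eq_multiplicity, hcard, show 9 * 2 ^ a * q ^ b = 3 ^ 2 * (2 ^ a * q ^ b) by ring,
    Nat.factorization_mul (by norm_num) (mul_ne_zero (by positivity) (pow_ne_zero _ hq.ne_zero)),
    Finsupp.add_apply, Nat.Prime.factorization_pow Nat.prime_three,
    Nat.factorization_eq_zero_of_not_dvd h3]
  simp

theorem dvd_nine {T : Sylow 3 G} [Fact (Nat.Prime 3)] (hcard : Nat.card (T : Subgroup G) = 9)
    {g : G} (hg : orderOf g ∣ 9) : ∃ v ∈ (T : Subgroup G), IsConj g v := by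
  obtain ⟨i, -, hi⟩ := (Nat.dvd_prime_pow Nat.prime_three).1 (show orderOf g ∣ 3 ^ 2 by simpa using hg)
  have hp : IsPGroup 3 (Subgroup.zpowers g) :=
    IsPGroup.of_card (n := i) (by rw [Nat.card_zpowers, hi])
  obtain ⟨Q, hQ⟩ := hp.exists_le_sylow
  obtain ⟨t, ht⟩ := MulAction.exists_smul_eq G Q T
  refine ⟨t * g * t⁻¹, ?_, isConj_iff.2 ⟨t, rfl⟩⟩
  rw [← ht, Sylow.coe_subgroup_smul]
  exact Subgroup.smul_mem_pointwise_smul _ (MulAut.conj t) _ (hQ (Subgroup.mem_zpowers _))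

/-- The outcome for three classes. -/
theorem main (hna : ¬ IsMulCommutative G) {q a b : ℕ} (hq : q.Prime) (hq2 : q ≠ 2) (hq3 : q ≠ 3)
    (hcard : Nat.card G = 9 * 2 ^ a * q ^ b) [Fact (Nat.Prime 3)] (T : Sylow 3 G)
    (h3 : ∃ x ∈ (T : Subgroup G), ∃ y ∈ (T : Subgroup G), ∃ z ∈ (T : Subgroup G),
      x ≠ 1 ∧ y ≠ 1 ∧ z ≠ 1 ∧ ¬ IsConj x y ∧ ¬ IsConj x z ∧ ¬ IsConj y z) :
    (∃ (F : Type) (_ : Field F) (_ : Fintype F), Fintype.card F = 8 ∧
        Nonempty (G ≃* Matrix.ProjectiveSpecialLinearGroup (Fin 2) F)) ∨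
      Nonempty (G ≃* Matrix.ProjectiveSpecialLinearGroup (Fin 2) (ZMod 17)) := by
  classical
  have hT := card_sylow hq hq3 hcard T
  have hfin : Nat.card G = 360 ∨
      (∃ (F : Type) (_ : Field F) (_ : Fintype F), Fintype.card F = 8 ∧
        Nonempty (G ≃* Matrix.ProjectiveSpecialLinearGroup (Fin 2) F)) ∨
      Nonempty (G ≃* Matrix.ProjectiveSpecialLinearGroup (Fin 2) (ZMod 17)) := by
    rcases dichotomy T hT (exists_coprime hna hq hq3 hcard) h3 with hP | ⟨x, y, hK⟩
    · obtain ⟨θ, E, h1, h2, hr, h4, h5, h6, h7⟩ := of_pairs hP hT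
      exact final hna hq hq2 hq3 hcard θ E h1 h2 hr h4 h5 h6 (Or.inr h7)
    · obtain ⟨θ, E, h1, h2, hr, h4, h5, h6⟩ := of_klein hK hT
      exact final hna hq hq2 hq3 hcard θ E h1 h2 hr h4 h5 (Or.inl h6) (Or.inl (by omega))
  refine hfin.resolve_left fun h360 => ?_
  obtain ⟨e⟩ := Cfsg.Agent.S0497.result h360
  obtain ⟨x, hx, y, hy, z, hz, hx1, hy1, hz1, hxy, hxz, hyz⟩ := h3
  have hpow : ∀ v ∈ (T : Subgroup G), (e v) ^ 9 = 1 := fun v hv => by
    have := pow_card_eq_one' (x := (⟨v, hv⟩ : (T : Subgroup G)))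
    rw [hT] at this
    rw [← map_pow, show v ^ 9 = 1 from congrArg Subtype.val this, map_one]
  have hne : ∀ v, v ≠ 1 → e v ≠ 1 := fun v hv h => hv (e.injective (h.trans (map_one e).symm))
  have back : ∀ {u v : G}, IsConj (e u) (e v) → IsConj u v := fun {u v} h => by
    have := MonoidHom.map_isConj e.symm.toMonoidHom h
    simpa using this
  rcases alt_six_two (hpow x hx) (hne x hx1) with h1 | h1 <;>
    rcases alt_six_two (hpow y hy) (hne y hy1) with h2 | h2 <;>
    rcases alt_six_two (hpow z hz) (hne z hz1) with h3 | h3 <;>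
    first
      | exact hxy (back (h1.trans h2.symm))
      | exact hxz (back (h1.trans h3.symm))
      | exact hyz (back (h2.trans h3.symm))

end Cfsg.Agent.Spor.NineQ
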