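import Cfsg.Agent.Lib.Char.SecInner
import Cfsg.Agent.Lib.Char.Galois

/-!
Class functions lifted from an abelian Sylow subgroup through the p-part: they are generalized
characters, and their inner products are sums over the Sylow subgroup.
-/

open scoped ComplexConjugate

namespace Cfsg.Agent.Spor.NineQ

open Cfsg.Agent.Block Cfsg.Agent.Char Cfsg.Agent.Char.BP Cfsg.Agent.Char.Spec Cfsg.Agent.Char.Star
open Cfsg.Agent.Char.SecInner

set_option linter.unusedSectionVars false
set_option linter.style.haveILetI false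

universe u

variable {G : Type u} [Group G] [Fintype G] {p : ℕ} [Fact p.Prime] {M : Ideal AlgInt}

/-- A function on the Sylow subgroup which is constant on classes. -/
def Stable (P : Sylow p G) (ψ : G → ℂ) : Prop :=
  ∀ u ∈ (P : Subgroup G), ∀ v ∈ (P : Subgroup G), IsConj u v → ψ u = ψ v

/-- Lift through the p-part. -/
noncomputable def lift (P : Sylow p G) (ψ : G → ℂ) (g : G) : ℂ :=
  ψ (exists_mem_conj_ppt g P).choose

theorem lift_eq {P : Sylow p G} {ψ : G → ℂ} (h : Stable P ψ) {g v : G}
    (hv : v ∈ (P : Subgroup G)) (hc : IsConj v (ppt p g)) : lift P ψ g = ψ v := by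
  obtain ⟨h1, h2⟩ := (exists_mem_conj_ppt g P).choose_spec
  exact h _ h1 v hv (h2.trans hc.symm)

theorem ppt_conj (g h : G) : ppt p (h * g * h⁻¹) = h * ppt p g * h⁻¹ := by
  classical
  obtain ⟨v, hv, hc, ⟨k, hk⟩, hr⟩ := ppt_spec (p := p) g
  have ho : ∀ a : G, orderOf (h * a * h⁻¹) = orderOf a := fun a => by
    rw [← MulAut.conj_apply, MulEquiv.orderOf_eq]
  conv_lhs => rw [← hv, ← conj_mul]
  exact ppt_eq (hc.map (MulAut.conj h).toMonoidHom) ⟨k, by rw [ho, hk]⟩ (by rwa [ho])

theorem ppt_pow (g : G) {k : ℕ} (hk : k.Coprime (Nat.card G)) : ppt p (g ^ k) = ppt p g ^ k := by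
  classical
  obtain ⟨v, hv, hc, ⟨i, hi⟩, hr⟩ := ppt_spec (p := p) g
  conv_lhs => rw [← hv, hc.mul_pow]
  refine ppt_eq (hc.pow_pow k k) ⟨i, ?_⟩ ?_
  · rw [(hk.symm.coprime_dvd_left (orderOf_dvd_natCard _)).orderOf_pow, hi]
  · rw [(hk.symm.coprime_dvd_left (orderOf_dvd_natCard v)).orderOf_pow]
    exact hr

theorem lift_classFun {P : Sylow p G} {ψ : G → ℂ} (h : Stable P ψ) :
    IsClassFunction G (lift P ψ) := by
  intro g x
  obtain ⟨h1, h2⟩ := (exists_mem_conj_ppt g P).choose_spec
  rw [lift_eq h h1 (show IsConj _ (ppt p (x * g * x⁻¹)) from ?_)]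
  · rfl
  · rw [ppt_conj]
    exact h2.trans (isConj_iff.2 ⟨x, rfl⟩)

theorem lift_pow {P : Sylow p G} {ψ : G → ℂ} (h : Stable P ψ) {k : ℕ}
    (hk : k.Coprime (Nat.card G)) (g : G) :
    lift P ψ (g ^ k) = lift P (fun v => ψ (v ^ k)) g := by
  obtain ⟨h1, h2⟩ := (exists_mem_conj_ppt g P).choose_spec
  obtain ⟨c, hc⟩ := isConj_iff.1 h2
  rw [lift_eq h (pow_mem h1 k) (isConj_iff.2 ⟨c, by rw [ppt_pow g hk, ← conj_pow, hc]⟩)]
  rfl

/-- A stable generalized character of the Sylow subgroup lifts to a generalized character. -/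
theorem isGenChar_lift {P : Sylow p G} {ψ : G → ℂ} (h : Stable P ψ)
    (hψg : IsGeneralizedCharacter (P : Subgroup G) (fun v => ψ (v : G))) :
    IsGeneralizedCharacter G (lift P ψ) := by
  classical
  refine Brauer.isGenChar_of_elementary (lift_classFun h) fun E hE => ?_
  obtain ⟨q, hq, hqE⟩ := hE
  have hnil : Group.IsNilpotent E := Brauer.isNilpotent_of_elementary hq hqE
  obtain ⟨S⟩ : Nonempty (Sylow p E) := inferInstance
  haveI : (S : Subgroup E).Normal :=
    (show Group.IsNilpotent E ↔ ∀ (r : ℕ) (_ : Fact r.Prime) (P : Sylow r E),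
        (P : Subgroup E).Normal from Group.isNilpotent_of_finite_tfae.out 0 3).1 hnil p
      inferInstance S
  have hcopQ : (Nat.card (S : Subgroup E)).Coprime (S : Subgroup E).index := by
    obtain ⟨k, hk⟩ := IsPGroup.iff_card.1 S.isPGroup'
    rw [hk]
    exact ((Fact.out : p.Prime).coprime_iff_not_dvd.2 S.not_dvd_index).pow_left _
  obtain ⟨R, hR⟩ := Subgroup.exists_right_complement'_of_coprime hcopQ
  have hRp : ¬ p ∣ Nat.card R := hR.symm.index_eq_card ▸ S.not_dvd_index
  have hcomm : ∀ (s : (S : Subgroup E)) (r : R), Commute (s : E) (r : E) := fun s r => by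
    refine commute_of_coprime_order hnil ?_
    obtain ⟨k, hk⟩ := IsPGroup.iff_orderOf.1 S.isPGroup' s
    rw [Subgroup.orderOf_coe, Subgroup.orderOf_coe, hk]
    exact (((Fact.out : p.Prime).coprime_iff_not_dvd.2 hRp).pow_left _).coprime_dvd_right
      (orderOf_dvd_natCard r)
  let φ : ↥(S : Subgroup E) × R →* E :=
    MonoidHom.noncommCoprod (S : Subgroup E).subtype R.subtype hcomm
  have hφ : Function.Bijective φ := hR
  let e := (MulEquiv.ofBijective φ hφ).symm
  set Q : Subgroup G := (S : Subgroup E).map E.subtype with hQ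
  obtain ⟨P', hP'⟩ := (S.isPGroup'.map E.subtype : IsPGroup p Q).exists_le_sylow
  obtain ⟨t, ht⟩ := MulAction.exists_smul_eq G P' P
  have hmem : ∀ s : (S : Subgroup E), t * ((s : E) : G) * t⁻¹ ∈ (P : Subgroup G) := fun s => by
    rw [← ht, Sylow.coe_subgroup_smul]
    exact Subgroup.smul_mem_pointwise_smul _ (MulAut.conj t) _ (hP' ⟨s, s.2, rfl⟩)
  let π : E →* (P : Subgroup G) :=
    (((MulAut.conj t).toMonoidHom.comp (E.subtype.comp (S : Subgroup E).subtype)).codRestrict _
      hmem).comp ((MonoidHom.fst _ _).comp e.toMonoidHom)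
  convert IsGenChar.comp π hψg using 1
  funext g
  have hpp : ppt p (g : G) = ((e g).1 : G) := by
    have hg : φ (e g) = g := (MulEquiv.ofBijective φ hφ).apply_symm_apply g
    conv_lhs => rw [← hg]
    show ppt p ((((e g).1 : E) * ((e g).2 : E) : E) : G) = _
    rw [Subgroup.coe_mul]
    obtain ⟨k, hk⟩ := IsPGroup.iff_orderOf.1 S.isPGroup' (e g).1
    refine ppt_eq ((hcomm (e g).1 (e g).2).map E.subtype) ⟨k, ?_⟩ ?_
    · rwa [Subgroup.orderOf_coe, Subgroup.orderOf_coe]
    · rw [Subgroup.orderOf_coe, Subgroup.orderOf_coe]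
      exact fun h => hRp (h.trans (orderOf_dvd_natCard _))
  have hπ : (π g : G) = t * ppt p (g : G) * t⁻¹ := by rw [hpp]; rfl
  exact lift_eq h (π g).2 (isConj_iff.2 ⟨t, hπ.symm⟩ : IsConj (ppt p (g : G)) (π g : G)).symm

/-- Pulling a lifted function out of a section. -/
theorem T_lift {P : Sylow p G} {ψ : G → ℂ} (h : Stable P ψ) {v : G} (hv : v ∈ (P : Subgroup G))
    (f : G → ℂ) : T p v (lift P ψ) f = ψ v * T p v (fun _ => 1) f := by
  classical
  simp only [T, Finset.mul_sum]
  refine Finset.sum_congr rfl fun g _ => ?_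
  split_ifs with hc
  · rw [lift_eq h hv hc]; ring
  · ring

theorem T_lift_right {P : Sylow p G} {ψ : G → ℂ} (h : Stable P ψ) {v : G}
    (hv : v ∈ (P : Subgroup G)) (f : G → ℂ) :
    T p v f (lift P ψ) = conj (ψ v) * T p v f (fun _ => 1) := by
  rw [T_conj v (lift P ψ) f, T_lift h hv, map_mul, ← T_conj]

open Classical in
/-- The inner product of a lifted function with anything. -/
theorem inner_lift {P : Sylow p G} {ψ : G → ℂ} (h : Stable P ψ) (f : G → ℂ) :
    classInner (lift P ψ) f = ∑ v ∈ Finset.univ.filter (fun v : G => v ∈ (P : Subgroup G)),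
      ψ v * T p v (fun _ => 1) f / (cnum P v : ℂ) := by
  rw [← sum_T P]
  exact Finset.sum_congr rfl fun v hv => by rw [T_lift h (Finset.mem_filter.1 hv).2]

open Classical in
/-- The inner product of two lifted functions. -/
theorem inner_lift_lift {P : Sylow p G} {ψ ψ' : G → ℂ} (h : Stable P ψ) (h' : Stable P ψ') :
    classInner (lift P ψ) (lift P ψ') =
      ∑ v ∈ Finset.univ.filter (fun v : G => v ∈ (P : Subgroup G)),
      ψ v * conj (ψ' v) * T p v (fun _ => 1) (fun _ => 1) / (cnum P v : ℂ) := by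
  rw [inner_lift h]
  refine Finset.sum_congr rfl fun v hv => ?_
  rw [T_lift_right h' (Finset.mem_filter.1 hv).2, mul_assoc]

/-- The weight of a section with rank one. -/
theorem T_one_rank_one (hM : IsPModular p M) (P : Sylow p G) {u : G}
    (hu : u ∈ (P : Subgroup G)) (hab : IsMulCommutative (P : Subgroup G))
    (hc : HasNormalPComplement p (Subgroup.centralizer ({u} : Set G))) :
    T p u (fun _ : G => (1 : ℂ)) (fun _ => 1) = 1 / (Nat.card (P : Subgroup G) : ℂ) := by
  have h := T_rank_one hM P hu hab hc (trivial_mem_principalBlock hM)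
    (trivial_mem_principalBlock hM)
  simpa [trivialIrr] using h

/-- A character correlated with the trivial one over some section lies in the principal block. -/
theorem mem_principal_of_T (hM : IsPModular p M) (P : Sylow p G) {u : G} (χ : IrrCharacter G)
    (h : T p u (χ : G → ℂ) (fun _ => 1) ≠ 0) : χ ∈ principalBlock M G := by
  classical
  by_contra hχ
  apply h
  have hB : IsPBlock M (blockOf M (χ : G → ℂ)) := isPBlock_blockOf χ
  have htriv : trivialIrr G ∉ blockOf M (χ : G → ℂ) := fun h0 => hχ (by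
    rw [principalBlock_eq, ← pblock_eq_blockOf hM hB h0]
    exact mem_blockOf_self hM χ)
  have key : ∀ w : G, ∑ η ∈ Finset.univ.filter (· ∈ blockOf M (χ : G → ℂ)),
      T p u (χ : G → ℂ) (η : G → ℂ) * T p w (η : G → ℂ) (fun _ => 1) =
        if IsConj u w then T p u (χ : G → ℂ) (fun _ => 1) else 0 :=
    fun w => T_mul hM hB (mem_blockOf_self hM χ) _ u w
  obtain ⟨u', hu', huu'⟩ : ∃ w ∈ (P : Subgroup G), IsConj u w := by
    by_contra hc
    refine h ?_
    simp only [T]
    rw [Finset.sum_eq_zero, mul_zero]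
    intro g _
    rw [if_neg]
    intro hg
    obtain ⟨w, hw, -, hw'⟩ := isConj_ppt P hg
    exact hc ⟨w, hw, hw'⟩
  have hn : cnum P u' ≠ 0 := Finset.card_ne_zero.2
    ⟨u', Finset.mem_filter.2 ⟨Finset.mem_univ _, hu', IsConj.refl _⟩⟩
  have h0 : ∀ η ∈ Finset.univ.filter (· ∈ blockOf M (χ : G → ℂ)),
      ∑ w ∈ Finset.univ.filter (fun v : G => v ∈ (P : Subgroup G)),
        T p w (η : G → ℂ) (fun _ => 1) / (cnum P w : ℂ) = 0 := by
    intro η hη
    rw [sum_T]
    exact classInner_irr_ne η.2 (trivialIrr G).2 fun e =>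
      htriv (by
        have e' : η = trivialIrr G := Subtype.ext e
        exact e' ▸ (Finset.mem_filter.1 hη).2)
  have h1 : ∑ w ∈ Finset.univ.filter (fun v : G => v ∈ (P : Subgroup G)),
      (if IsConj u w then T p u (χ : G → ℂ) (fun _ => 1) else 0) / (cnum P w : ℂ) = 0 := by
    simp only [← key, Finset.sum_div, mul_div_assoc]
    rw [Finset.sum_comm]
    refine Finset.sum_eq_zero fun η hη => ?_
    rw [← Finset.mul_sum, h0 η hη, mul_zero]
  have h2 : ∑ w ∈ Finset.univ.filter (fun v : G => v ∈ (P : Subgroup G)),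
      (if IsConj u w then T p u (χ : G → ℂ) (fun _ => 1) else 0) / (cnum P w : ℂ) =
        T p u (χ : G → ℂ) (fun _ => 1) := by
    calc ∑ w ∈ Finset.univ.filter (fun v : G => v ∈ (P : Subgroup G)),
        (if IsConj u w then T p u (χ : G → ℂ) (fun _ => 1) else 0) / (cnum P w : ℂ)
        = ∑ w ∈ (Finset.univ.filter (fun v : G => v ∈ (P : Subgroup G))).filter
            (fun w => IsConj u w), T p u (χ : G → ℂ) (fun _ => 1) / (cnum P u' : ℂ) := by
          conv_rhs => rw [Finset.sum_filter]
          refine Finset.sum_congr rfl fun w _ => ?_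
          split_ifs with hw
          · have : cnum P w = cnum P u' := congrArg Finset.card (Finset.filter_congr fun t _ =>
              and_congr_right fun _ => ⟨fun ht => (huu'.symm.trans hw).trans ht,
                fun ht => (hw.symm.trans huu').trans ht⟩)
            rw [this]
          · rw [zero_div]
      _ = _ := by
          rw [Finset.sum_const, nsmul_eq_mul]
          have : ((Finset.univ.filter (fun v : G => v ∈ (P : Subgroup G))).filter
              (fun w => IsConj u w)).card = cnum P u' := by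
            rw [Finset.filter_filter]
            exact congrArg Finset.card (Finset.filter_congr fun t _ =>
              and_congr_right fun _ => ⟨fun ht => huu'.symm.trans ht, fun ht => huu'.trans ht⟩)
          rw [this, mul_div_cancel₀ _ (Nat.cast_ne_zero.2 hn)]
  rw [← h2]
  exact h1

/-- Over a rank-one section a character of the principal block pairs with the trivial one by its
value; a character outside pairs to zero. -/
theorem T_one_left (hM : IsPModular p M) (P : Sylow p G) {u : G} (hu : u ∈ (P : Subgroup G))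
    (hab : IsMulCommutative (P : Subgroup G))
    (hc : HasNormalPComplement p (Subgroup.centralizer ({u} : Set G))) (χ : IrrCharacter G)
    (hχ : χ ∈ principalBlock M G) :
    T p u (fun _ => 1) (χ : G → ℂ) = conj ((χ : G → ℂ) u) / (Nat.card (P : Subgroup G) : ℂ) := by
  have h := T_rank_one hM P hu hab hc (trivial_mem_principalBlock hM) hχ
  simpa [trivialIrr] using h

/-- A character meeting a lifted function lies in the principal block. -/
theorem mem_principal_of_inner (hM : IsPModular p M) {P : Sylow p G} {ψ : G → ℂ}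
    (h : Stable P ψ) (χ : IrrCharacter G) (hne : classInner (lift P ψ) (χ : G → ℂ) ≠ 0) :
    χ ∈ principalBlock M G := by
  classical
  rw [inner_lift h] at hne
  obtain ⟨v, -, hv⟩ := Finset.exists_ne_zero_of_sum_ne_zero hne
  refine mem_principal_of_T hM P (u := v) χ fun h0 => hv ?_
  rw [T_conj v (χ : G → ℂ) (fun _ => 1), h0, map_zero, mul_zero, zero_div]

theorem classInner_pow {k : ℕ} (hk : k.Coprime (Nat.card G)) (f f' : G → ℂ) :
    classInner (fun g => f (g ^ k)) (fun g => f' (g ^ k)) = classInner f f' := by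
  simp only [classInner]
  congr 1
  exact Fintype.sum_equiv (powCoprime hk.symm) _ _ fun g => by simp [powCoprime]

end Cfsg.Agent.Spor.NineQ
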